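/-
The Borel subgroup of `Sp_2m` in block form: Siegel radical, Levi factor, unitriangular part.
-/
import Cfsg.Agent.RepBounds.Siegel
import Cfsg.Agent.Forms4.SymplecticSimple
import Cfsg.Agent.FusionSimple.UpperSL

set_option autoImplicit false

namespace CfsgLib.FusionSimple.PSp

open Matrix CfsgLib.Forms CfsgLib.RepBounds
open CfsgLib.FusionSimple.UpperSL (IsUni IsUpper)

variable {m : ℕ} {F : Type*} [Field F]

local notation "SP" => Matrix.symplecticGroup (Fin m) F
local notation "Mat" => Matrix (Fin m) (Fin m) F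

/-- The four blocks. -/
def b11 (A : SP) : Mat := A.1.toBlocks₁₁
/-- Upper right block. -/
def b12 (A : SP) : Mat := A.1.toBlocks₁₂
/-- Lower left block. -/
def b21 (A : SP) : Mat := A.1.toBlocks₂₁
/-- Lower right block. -/
def b22 (A : SP) : Mat := A.1.toBlocks₂₂

theorem eq_blocks (A : SP) : A.1 = fromBlocks (b11 A) (b12 A) (b21 A) (b22 A) :=
  (fromBlocks_toBlocks A.1).symm

theorem ext_blocks {A B : SP} (h₁ : b11 A = b11 B) (h₂ : b12 A = b12 B) (h₃ : b21 A = b21 B)
    (h₄ : b22 A = b22 B) : A = B :=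
  Subtype.ext (by rw [eq_blocks A, eq_blocks B, h₁, h₂, h₃, h₄])

theorem mul_blocks (A B : SP) :
    b11 (A * B) = b11 A * b11 B + b12 A * b21 B ∧ b12 (A * B) = b11 A * b12 B + b12 A * b22 B ∧
      b21 (A * B) = b21 A * b11 B + b22 A * b21 B ∧ b22 (A * B) = b21 A * b12 B + b22 A * b22 B := by
  have h : (A * B).1 = A.1 * B.1 := rfl
  rw [eq_blocks A, eq_blocks B, fromBlocks_multiply, eq_blocks (A * B)] at h
  exact fromBlocks_inj.1 h

theorem one_blocks : b11 (1 : SP) = 1 ∧ b12 (1 : SP) = 0 ∧ b21 (1 : SP) = 0 ∧ b22 (1 : SP) = 1 := by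
  have h : (1 : SP).1 = fromBlocks 1 0 0 1 := by rw [fromBlocks_one]; rfl
  rw [eq_blocks (1 : SP)] at h
  exact fromBlocks_inj.1 h

/-- The Levi homomorphism. -/
noncomputable def leviHom : GL (Fin m) F →* SP where
  toFun := leviEl
  map_one' := Subtype.ext (by
    show leviMat 1 = _
    simp [leviMat])
  map_mul' g h := Subtype.ext (by
    show leviMat (g * h) = leviMat g * leviMat h
    rw [leviMat, leviMat, leviMat, fromBlocks_multiply, ← transpose_mul,
      ← GeneralLinearGroup.coe_mul, ← GeneralLinearGroup.coe_mul, ← _root_.mul_inv_rev]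
    simp only [Matrix.mul_zero, Matrix.zero_mul, add_zero, zero_add])

/-- The Levi homomorphism on `SL_m`. -/
noncomputable def leviSL : Matrix.SpecialLinearGroup (Fin m) F →* SP :=
  leviHom.comp Matrix.SpecialLinearGroup.toGL

theorem leviHom_blocks (g : GL (Fin m) F) :
    b11 (leviHom g) = g.1 ∧ b12 (leviHom g) = 0 ∧ b21 (leviHom g) = 0 ∧
      b22 (leviHom g) = ((g⁻¹ : GL (Fin m) F).1)ᵀ :=
  ⟨rfl, rfl, rfl, rfl⟩

theorem siegelU_blocks (S : symMat m F) :
    b11 (siegelU S) = 1 ∧ b12 (siegelU S) = S.1 ∧ b21 (siegelU S) = 0 ∧ b22 (siegelU S) = 1 :=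
  ⟨toBlocks_fromBlocks₁₁ _ _ _ _, toBlocks_fromBlocks₁₂ _ _ _ _, toBlocks_fromBlocks₂₁ _ _ _ _,
    toBlocks_fromBlocks₂₂ _ _ _ _⟩

/-- An element preserving the Lagrangian is a Siegel element times a Levi element. -/
theorem exists_siegel_levi {A : SP} (h : b21 A = 0) :
    ∃ (S : symMat m F) (g : GL (Fin m) F), g.1 = b11 A ∧ A = siegelU S * leviHom g ∧
      b12 A = S.1 * ((g⁻¹ : GL (Fin m) F).1)ᵀ := by
  have hA := SymplecticGroup.mem_iff.1 A.2
  rw [eq_blocks A, J, fromBlocks_transpose, fromBlocks_multiply, fromBlocks_multiply, h] at hA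
  simp only [Matrix.mul_zero, Matrix.zero_mul, Matrix.mul_neg, Matrix.mul_one, add_zero, zero_add,
    Matrix.neg_mul, Matrix.transpose_zero] at hA
  obtain ⟨h11, h12, -, -⟩ := fromBlocks_inj.1 hA
  have hPD : b11 A * (b22 A)ᵀ = 1 := neg_inj.1 h12
  let g : GL (Fin m) F := ⟨b11 A, (b22 A)ᵀ, hPD, mul_eq_one_comm.1 hPD⟩
  have hsym : (b12 A * (b11 A)ᵀ)ᵀ = b12 A * (b11 A)ᵀ := by
    rw [transpose_mul, transpose_transpose]
    exact (add_neg_eq_zero.1 h11).symm
  have hP : (b11 A)ᵀ * b22 A = 1 := by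
    have := congrArg Matrix.transpose hPD
    rw [transpose_mul, transpose_transpose, transpose_one] at this
    exact mul_eq_one_comm.1 this
  have hinv : ((g⁻¹ : GL (Fin m) F).1)ᵀ = b22 A := transpose_transpose _
  refine ⟨⟨_, hsym⟩, g, rfl, ext_blocks ?_ ?_ ?_ ?_, ?_⟩
  all_goals first
    | (rw [hinv, Matrix.mul_assoc, hP, Matrix.mul_one]; done)
    | skip
  all_goals
    obtain ⟨m1, m2, m3, m4⟩ := mul_blocks (siegelU ⟨_, hsym⟩) (leviHom g)
    obtain ⟨s1, s2, s3, s4⟩ := siegelU_blocks (⟨_, hsym⟩ : symMat m F)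
    obtain ⟨l1, l2, l3, l4⟩ := leviHom_blocks g
  · rw [m1, s1, l1, l3, Matrix.one_mul, Matrix.mul_zero, add_zero]
  · rw [m2, s2, l2, l4, hinv, Matrix.mul_zero, zero_add, Matrix.mul_assoc, hP, Matrix.mul_one]
  · rw [h, m3, s3, l3, Matrix.zero_mul, Matrix.mul_zero, add_zero]
  · rw [m4, s3, s4, l4, hinv, Matrix.zero_mul, zero_add, Matrix.one_mul]

/-- The unitriangular subgroup of `Sp_2m`. -/
def spUnip [Finite F] : Subgroup SP where
  carrier := {A | b21 A = 0 ∧ IsUni (b11 A)}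
  one_mem' := ⟨one_blocks.2.2.1, fun i j _ => by rw [one_blocks.1]⟩
  mul_mem' {A B} hA hB := by
    obtain ⟨h1, -, h3, -⟩ := mul_blocks A B
    refine ⟨?_, ?_⟩
    · rw [h3, hA.1, hB.1, Matrix.zero_mul, Matrix.mul_zero, add_zero]
    · rw [h1, hB.1, Matrix.mul_zero, add_zero]
      exact hA.2.mul hB.2
  inv_mem' {A} hA := by
    haveI : Finite SP := Finite.of_injective _ Subtype.val_injective
    have hpow : ∀ k : ℕ, b21 (A ^ k) = 0 ∧ IsUni (b11 (A ^ k)) := by
      intro k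
      induction k with
      | zero =>
        rw [pow_zero]
        exact ⟨one_blocks.2.2.1, fun i j _ => by rw [one_blocks.1]⟩
      | succ k ih =>
        rw [pow_succ]
        obtain ⟨h1, -, h3, -⟩ := mul_blocks (A ^ k) A
        refine ⟨?_, ?_⟩
        · rw [h3, ih.1, hA.1, Matrix.zero_mul, Matrix.mul_zero, add_zero]
        · rw [h1, hA.1, Matrix.mul_zero, add_zero]
          exact ih.2.mul hA.2
    have : A⁻¹ = A ^ (orderOf A - 1) := by
      refine inv_eq_of_mul_eq_one_right ?_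
      rw [← pow_succ', Nat.sub_add_cancel (orderOf_pos A), pow_orderOf_eq_one]
    rw [Set.mem_setOf_eq, this]
    exact hpow _

theorem mem_spUnip [Finite F] {A : SP} : A ∈ spUnip ↔ b21 A = 0 ∧ IsUni (b11 A) := Iff.rfl

theorem siegelU_mem [Finite F] (S : symMat m F) : siegelU S ∈ spUnip (m := m) (F := F) := by
  obtain ⟨s1, -, s3, -⟩ := siegelU_blocks S
  exact ⟨s3, fun i j _ => by rw [s1]⟩

theorem leviSL_mem [Finite F] {g : Matrix.SpecialLinearGroup (Fin m) F} (hg : IsUni g.1) :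
    leviSL g ∈ spUnip (m := m) (F := F) := ⟨rfl, hg⟩

theorem det_of_isUni {M : Mat} (h : IsUni M) : M.det = 1 := by
  rw [Matrix.det_of_isUpperTriangular (fun i j hij => h.isUpper i j hij)]
  exact Finset.prod_eq_one fun i _ => h.apply_self i

/-- A member of the unitriangular subgroup decomposes. -/
theorem exists_decomp [Finite F] {A : SP} (hA : A ∈ spUnip (m := m) (F := F)) :
    ∃ (S : symMat m F) (g : Matrix.SpecialLinearGroup (Fin m) F), IsUni g.1 ∧
      g.1 = b11 A ∧ A = siegelU S * leviSL g := by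
  obtain ⟨S, g, hg, e, -⟩ := exists_siegel_levi hA.1
  refine ⟨S, ⟨b11 A, det_of_isUni hA.2⟩, hA.2, rfl, ?_⟩
  conv_lhs => rw [e]
  exact congrArg (fun z => siegelU S * leviHom z) (Units.ext hg)

variable (p : ℕ) [Fact p.Prime] [CharP F p]

theorem isPGroup_spUnip [Finite F] : IsPGroup p (spUnip (m := m) (F := F)) := by
  refine isPGroup_iff_pow_pow_eq_one.2 ?_
  rintro ⟨A, hA⟩
  -- the power lies in the Siegel radical
  let f : spUnip (m := m) (F := F) →* Matrix.SpecialLinearGroup (Fin m) F :=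
    { toFun := fun B => ⟨b11 B.1, det_of_isUni B.2.2⟩
      map_one' := Subtype.ext one_blocks.1
      map_mul' := fun B C => Subtype.ext (by
        show b11 (B.1 * C.1) = b11 B.1 * b11 C.1
        rw [(mul_blocks B.1 C.1).1, C.2.1, Matrix.mul_zero, add_zero]) }
  have h1 : f (⟨A, hA⟩ ^ p ^ m) = 1 := by
    rw [map_pow]
    exact UpperSL.pow_eq_one_of_isUni p (g := f ⟨A, hA⟩) hA.2
  set B := (⟨A, hA⟩ : spUnip (m := m) (F := F)) ^ p ^ m
  obtain ⟨S, g, -, hg, e⟩ := exists_decomp B.2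
  have hg1 : g = 1 := Subtype.ext (hg.trans (congrArg Subtype.val h1))
  rw [hg1, map_one, mul_one] at e
  refine ⟨m + 1, ?_⟩
  rw [pow_succ, pow_mul]
  refine Subtype.ext ?_
  show B.1 ^ p = 1
  rw [e, ← AddChar.map_nsmul_eq_pow, show p • S = 0 from Subtype.ext (by
    show p • S.1 = 0
    ext i j
    rw [Matrix.smul_apply, nsmul_eq_mul, CharP.cast_eq_zero, zero_mul]; rfl), AddChar.map_zero_eq_one]

end CfsgLib.FusionSimple.PSp
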