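/-
Root elements of `Sp_2m` outside the Borel subgroup, and the torus element they generate.
-/
import Cfsg.Agent.FusionSimple.PSp.Basic

set_option autoImplicit false

namespace CfsgLib.FusionSimple.PSp

open Matrix CfsgLib.Forms CfsgLib.RepBounds
open CfsgLib.FusionSimple.UpperSL (IsUni IsUpper)

variable {m : ℕ} {F : Type*} [Field F]

local notation "SP" => Matrix.symplecticGroup (Fin m) F
local notation "Mat" => Matrix (Fin m) (Fin m) F

/-- An element with four diagonal blocks forming matrices of determinant one. -/
def diagBlocks (a b c d : Fin m → F) (h : ∀ i, a i * d i - b i * c i = 1) : SP :=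
  ⟨fromBlocks (diagonal a) (diagonal b) (diagonal c) (diagonal d), by
    rw [SymplecticGroup.mem_iff, J, fromBlocks_transpose, fromBlocks_multiply, fromBlocks_multiply]
    simp only [diagonal_transpose, Matrix.mul_zero, Matrix.mul_neg, Matrix.mul_one, zero_add,
      add_zero, Matrix.neg_mul, diagonal_mul_diagonal, diagonal_neg, diagonal_add]
    rw [fromBlocks_inj]
    refine ⟨?_, ?_, ?_, ?_⟩ <;> ext i j <;> rcases eq_or_ne i j with rfl | hij
    all_goals try (simp [hij]; done)
    all_goals simp only [Matrix.add_apply, Matrix.neg_apply, Matrix.zero_apply, diagonal_apply_eq, Matrix.one_apply_eq]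
    · ring
    · linear_combination -(h i)
    · linear_combination h i
    · ring⟩

/-- The Weyl element of the `i`-th long root. -/
def wElt (i : Fin m) : SP :=
  diagBlocks (fun j => if j = i then 0 else 1) (fun j => if j = i then 1 else 0)
    (fun j => if j = i then -1 else 0) (fun j => if j = i then 0 else 1)
    (fun j => by by_cases h : j = i <;> simp [h])

/-- The long root element below the diagonal. -/
def lowerElt (i : Fin m) (c : F) : SP :=
  diagBlocks 1 0 (fun j => if j = i then c else 0) 1 (fun j => by simp)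

/-- The long root element above the diagonal, as a symmetric matrix. -/
def longSym (i : Fin m) (c : F) : symMat m F :=
  ⟨diagonal fun j => if j = i then c else 0, diagonal_transpose _⟩

/-- The short root symmetric matrix. -/
def shortSym (k l : Fin m) (c : F) : symMat m F :=
  ⟨Matrix.single k l c + Matrix.single l k c, by
    show _ = _
    rw [transpose_add, transpose_single, transpose_single, add_comm]⟩

theorem siegelU_long (i : Fin m) (c : F) : (siegelU (longSym i c) : SP) =
    diagBlocks 1 (fun j => if j = i then c else 0) 0 1 (fun j => by simp) :=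
  Subtype.ext (by
    show siegelMat _ = _
    simp [siegelMat, diagBlocks, longSym])

theorem diagBlocks_mul (a b c d a' b' c' d' : Fin m → F) (h : ∀ i, a i * d i - b i * c i = 1)
    (h' : ∀ i, a' i * d' i - b' i * c' i = 1) :
    diagBlocks a b c d h * diagBlocks a' b' c' d' h' =
      diagBlocks (fun i => a i * a' i + b i * c' i) (fun i => a i * b' i + b i * d' i)
        (fun i => c i * a' i + d i * c' i) (fun i => c i * b' i + d i * d' i)
        (fun i => by linear_combination (a' i * d' i - b' i * c' i) * h i + h' i) := by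
  refine Subtype.ext ?_
  show fromBlocks _ _ _ _ * fromBlocks _ _ _ _ = fromBlocks _ _ _ _
  rw [fromBlocks_multiply]
  simp only [diagonal_mul_diagonal, diagonal_add]

theorem diagBlocks_congr {a b c d a' b' c' d' : Fin m → F} {h : ∀ i, a i * d i - b i * c i = 1}
    {h' : ∀ i, a' i * d' i - b' i * c' i = 1} (ha : ∀ i, a i = a' i) (hb : ∀ i, b i = b' i)
    (hc : ∀ i, c i = c' i) (hd : ∀ i, d i = d' i) :
    (diagBlocks a b c d h : SP) = diagBlocks a' b' c' d' h' := by
  obtain rfl := funext ha
  obtain rfl := funext hb
  obtain rfl := funext hc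
  obtain rfl := funext hd
  rfl

/-- A diagonal matrix as an invertible one. -/
def diagGL (d : Fin m → F) (hd : ∀ i, d i ≠ 0) : GL (Fin m) F :=
  ⟨diagonal d, diagonal fun i => (d i)⁻¹,
    by rw [diagonal_mul_diagonal, ← diagonal_one]; exact congrArg diagonal (funext fun i => mul_inv_cancel₀ (hd i)),
    by rw [diagonal_mul_diagonal, ← diagonal_one]; exact congrArg diagonal (funext fun i => inv_mul_cancel₀ (hd i))⟩

/-- The torus element at `i`. -/
def oneAt (i : Fin m) (a : Fˣ) : GL (Fin m) F :=
  diagGL (fun j => if j = i then (a : F) else 1) (fun j => by by_cases h : j = i <;> simp [h])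

theorem leviHom_oneAt (i : Fin m) (a : Fˣ) :
    (leviHom (oneAt i a) : SP) =
      (siegelU (longSym i (a : F)) * lowerElt i (-(a : F)⁻¹) * siegelU (longSym i (a : F))) *
      (siegelU (longSym i (-1)) * lowerElt i 1 * siegelU (longSym i (-1))) := by
  rw [siegelU_long, siegelU_long, lowerElt, lowerElt, diagBlocks_mul, diagBlocks_mul, diagBlocks_mul,
    diagBlocks_mul, diagBlocks_mul]
  refine (Subtype.ext ?_ : (leviHom (oneAt i a) : SP) =
    diagBlocks (fun j => if j = i then (a : F) else 1) 0 0
      (fun j => (if j = i then (a : F) else 1)⁻¹) (fun j => by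
        by_cases h : j = i <;> simp [h])).trans (diagBlocks_congr ?_ ?_ ?_ ?_)
  · show leviMat _ = _
    simp [leviMat, oneAt, diagGL, diagBlocks, Units.inv_mk]
  all_goals
    intro j
    by_cases h : j = i <;> simp [h]

theorem diagonal_mul_single_apply (u : Fin m → F) (r t : Fin m) (c : F) :
    diagonal u * Matrix.single r t c = Matrix.single r t (u r * c) := by
  ext x y
  rw [diagonal_mul, Matrix.single_apply, Matrix.single_apply]
  split_ifs with h
  · rw [h.1]
  · rw [mul_zero]

theorem single_mul_diagonal_apply (u : Fin m → F) (r t : Fin m) (c : F) :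
    Matrix.single r t c * diagonal u = Matrix.single r t (c * u t) := by
  ext x y
  rw [mul_diagonal, Matrix.single_apply, Matrix.single_apply]
  split_ifs with h
  · rw [h.2]
  · rw [zero_mul]

/-- The Weyl element exchanges a Levi root group with a short Siegel root group. -/
theorem wElt_mul_levi {k i : Fin m} (hki : k ≠ i) (b : F) :
    wElt i * leviSL (Matrix.SpecialLinearGroup.transvection hki b) =
      siegelU (shortSym k i (-b)) * wElt i := by
  set T := Matrix.SpecialLinearGroup.transvection hki b
  have hT : (Matrix.SpecialLinearGroup.toGL T : GL (Fin m) F).1 = 1 + Matrix.single k i b := rfl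
  have hTi : ((Matrix.SpecialLinearGroup.toGL T)⁻¹ : GL (Fin m) F).1 = 1 + Matrix.single k i (-b) := by
    rw [← map_inv, show T⁻¹ = Matrix.SpecialLinearGroup.transvection hki (-b) from
      Matrix.SpecialLinearGroup.transvection_inv ..]
    rfl
  obtain ⟨l1, l2, l3, l4⟩ := leviHom_blocks (Matrix.SpecialLinearGroup.toGL T)
  obtain ⟨s1, s2, s3, s4⟩ := siegelU_blocks (shortSym k i (-b))
  have w1 : b11 (wElt i : SP) = diagonal (fun j => if j = i then (0 : F) else 1) :=
    toBlocks_fromBlocks₁₁ _ _ _ _
  have w2 : b12 (wElt i : SP) = diagonal (fun j => if j = i then (1 : F) else 0) :=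
    toBlocks_fromBlocks₁₂ _ _ _ _
  have w3 : b21 (wElt i : SP) = diagonal (fun j => if j = i then (-1 : F) else 0) :=
    toBlocks_fromBlocks₂₁ _ _ _ _
  have w4 : b22 (wElt i : SP) = diagonal (fun j => if j = i then (0 : F) else 1) :=
    toBlocks_fromBlocks₂₂ _ _ _ _
  obtain ⟨a1, a2, a3, a4⟩ := mul_blocks (wElt i) (leviSL T)
  obtain ⟨c1, c2, c3, c4⟩ := mul_blocks (siegelU (shortSym k i (-b))) (wElt i)
  have hL1 : b11 (leviSL T) = 1 + Matrix.single k i b := l1.trans hT
  have hL2 : b12 (leviSL T) = 0 := l2
  have hL3 : b21 (leviSL T) = 0 := l3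
  have hL4 : b22 (leviSL T) = (1 + Matrix.single k i (-b))ᵀ :=
    l4.trans (congrArg Matrix.transpose hTi)
  have hd : ∀ (u : Fin m → F) (r t : Fin m) (c : F),
      diagonal u * Matrix.single r t c = Matrix.single r t (u r * c) := diagonal_mul_single_apply
  have hs : ∀ (u : Fin m → F) (r t : Fin m) (c : F),
      Matrix.single r t c * diagonal u = Matrix.single r t (c * u t) := single_mul_diagonal_apply
  refine ext_blocks ?_ ?_ ?_ ?_
  · rw [a1, c1, s1, s2, w1, w2, w3, hL1, hL3, shortSym]
    simp [Matrix.mul_add, Matrix.add_mul, hd, hs, hki, hki.symm]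
  · rw [a2, c2, s1, s2, w1, w2, w4, hL2, hL4, shortSym]
    simp [Matrix.mul_add, Matrix.add_mul, hd, hs, hki, hki.symm]
  · rw [a3, c3, s3, s4, w1, w3, w4, hL1, hL3]
    simp [Matrix.mul_add, Matrix.add_mul, hd, hs, hki, hki.symm]
  · rw [a4, c4, s3, s4, w2, w3, w4, hL2, hL4]
    simp [Matrix.mul_add, Matrix.add_mul, hd, hs, hki, hki.symm]

end CfsgLib.FusionSimple.PSp
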