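/-
The image of the unitriangular subgroup is a Sylow subgroup of `PSp_2m`, with Borel normalizer.
-/
import Cfsg.Agent.FusionSimple.PSp.Elements
import Cfsg.Agent.AutPSp.Transvection

set_option autoImplicit false

namespace CfsgLib.FusionSimple.PSp

open Matrix CfsgLib.Forms CfsgLib.RepBounds
open CfsgLib.FusionSimple.UpperSL (IsUni IsUpper)

variable {m : ℕ} {F : Type*} [Field F]

local notation "SP" => Matrix.symplecticGroup (Fin m) F

/-- The projection. -/
noncomputable def proj : SP →* Cfsg.PSp m F := QuotientGroup.mk' (Subgroup.center SP)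

theorem proj_surjective : Function.Surjective (proj (m := m) (F := F)) := QuotientGroup.mk'_surjective _

theorem proj_eq_one {a : SP} : proj a = 1 ↔ a ∈ Subgroup.center SP := QuotientGroup.eq_one_iff a

variable [Finite F] (p : ℕ) [hp : Fact p.Prime] [hchar : CharP F p]

/-- The image of the unitriangular group. -/
noncomputable def imgU : Subgroup (Cfsg.PSp m F) := (spUnip (m := m) (F := F)).map proj

include hp hchar

theorem pow_of_mem {u : SP} (hu : u ∈ spUnip (m := m) (F := F)) : ∃ k, u ^ p ^ k = 1 := by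
  obtain ⟨k, hk⟩ := isPGroup_spUnip p (⟨u, hu⟩ : spUnip (m := m) (F := F))
  exact ⟨k, congrArg Subtype.val hk⟩

theorem proj_inj (hm : 1 ≤ m) {u v : SP} (hu : u ∈ spUnip (m := m) (F := F))
    (hv : v ∈ spUnip (m := m) (F := F)) (h : proj u = proj v) : u = v := by
  obtain ⟨k, hk⟩ := pow_of_mem p (mul_mem (inv_mem hu) hv)
  exact inv_mul_eq_one.1 (CfsgLib.AutPSp.pow_char_center_eq_one p hm (QuotientGroup.eq.1 h) hk)

/-- A lift normalizing the image normalizes the subgroup. -/
theorem conj_mem_of_normalizer (hm : 1 ≤ m) {g : SP}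
    (hg : proj g ∈ Subgroup.normalizer ((imgU (m := m) (F := F)) : Set _)) {u : SP}
    (hu : u ∈ spUnip (m := m) (F := F)) : g * u * g⁻¹ ∈ spUnip (m := m) (F := F) := by
  obtain ⟨v, hv, hve⟩ := (Subgroup.mem_normalizer_iff.1 hg _).1 ⟨u, hu, rfl⟩
  rw [← map_inv, ← map_mul, ← map_mul] at hve
  suffices h : g * u * g⁻¹ = v by rw [h]; exact hv
  obtain ⟨k, hk⟩ := pow_of_mem p hu
  obtain ⟨l, hl⟩ := pow_of_mem p hv
  have h1 : v ^ p ^ (k + l) = 1 := by rw [add_comm, pow_add, pow_mul, hl, one_pow]
  have h2 : (g * u * g⁻¹) ^ p ^ (k + l) = 1 := by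
    rw [conj_pow, pow_add, pow_mul, hk, one_pow, mul_one, mul_inv_cancel]
  exact (CfsgLib.AutPSp.eq_of_mk_eq p hm h1 h2 hve).symm

theorem b21_eq_zero_of_normalizer (hm : 1 ≤ m) {g : SP}
    (hg : proj g ∈ Subgroup.normalizer ((imgU (m := m) (F := F)) : Set _)) : b21 g = 0 := by
  ext j i
  have h := (conj_mem_of_normalizer p hm hg (siegelU_mem (longSym i 1))).1
  have e : spTransv (Pi.single (Sum.inl i) (1 : F)) 1 = siegelU (longSym i 1) :=
    spTransv_inl i 1 _ (by
      ext r t
      simp only [longSym, Matrix.diagonal_apply, Matrix.single_apply]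
      by_cases hr : r = i <;> by_cases ht : t = i <;> by_cases hrt : r = t <;> simp_all [eq_comm])
  rw [← e, CfsgLib.Forms4.conj_spTransv] at h
  set w := g.1 *ᵥ Pi.single (Sum.inl i) (1 : F)
  have hw : w (Sum.inr j) = b21 g j i := by
    simp [w, b21, Matrix.toBlocks₂₁, Matrix.mulVec_single]
  have h2 : (spTransv w (1 : F)).1 (Sum.inr j) (Sum.inl j) = 0 := congrFun (congrFun h j) j
  have h3 : ((spTransv w (1 : F)).1 *ᵥ Pi.single (Sum.inl j) (1 : F)) (Sum.inr j) = 0 := by
    rw [Matrix.mulVec_single]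
    simpa using h2
  rw [CfsgLib.Forms4.spTransv_mulVec, sympForm_swap, sympForm_single_inl] at h3
  simpa [hw, Pi.single_apply] using h3

omit hp hchar [Finite F] in
theorem isUpper_of_conj {M Mi : Matrix (Fin m) (Fin m) F} (hMi : Mi * M = 1)
    (h : ∀ (i j : Fin m) (hij : i < j),
      IsUni (M * (Matrix.SpecialLinearGroup.transvection hij.ne (1 : F)).1 * Mi)) : IsUpper M := by
  suffices H : ∀ d : ℕ, ∀ r i : Fin m, m - r.val ≤ d → i < r → M r i = 0 from
    fun r i hir => H m r i (Nat.sub_le _ _) hir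
  intro d
  induction d with
  | zero => intro r i hr _; have := r.isLt; omega
  | succ d ih =>
    intro r i hr hir
    set j : Fin m := ⟨i.val + 1, by have := r.isLt; omega⟩
    have hij : i < j := by show i.val < i.val + 1; omega
    have hN := h i j hij
    set T := (Matrix.SpecialLinearGroup.transvection hij.ne (1 : F)).1 with hT
    have heq : (M * T) r j = ((M * T * Mi) * M) r j := by
      rw [Matrix.mul_assoc (M * T), hMi, Matrix.mul_one]
    rw [hT, UpperSL.mul_transvection_apply, if_pos rfl, one_mul, ← hT] at heq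
    rw [Matrix.mul_apply (M := M * T * Mi), Finset.sum_eq_single r (fun k _ hk => ?_) (by simp),
      hN.apply_self, one_mul] at heq
    · exact add_eq_left.mp heq
    · rcases lt_or_gt_of_ne hk with h1 | h1
      · rw [hN.isUpper r k h1, zero_mul]
      · have hjk : j < k := by
          show i.val + 1 < k.val
          have : i.val < r.val := hir
          have : r.val < k.val := h1
          omega
        rw [ih k j (by have : r.val < k.val := h1; have := k.isLt; omega) hjk, mul_zero]

/-- The normalizer lifts into the Borel subgroup. -/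
theorem borel_of_normalizer (hm : 1 ≤ m) {g : SP}
    (hg : proj g ∈ Subgroup.normalizer ((imgU (m := m) (F := F)) : Set _)) :
    b21 g = 0 ∧ IsUpper (b11 g) := by
  have h0 := b21_eq_zero_of_normalizer p hm hg
  refine ⟨h0, isUpper_of_conj (Mi := b11 g⁻¹) ?_ fun i j hij => ?_⟩
  · have h1 : b21 g⁻¹ = 0 := b21_eq_zero_of_normalizer p hm (by rw [map_inv]; exact inv_mem hg)
    have h2 := (mul_blocks g⁻¹ g).1
    rw [inv_mul_cancel, one_blocks.1, h0, Matrix.mul_zero, add_zero] at h2
    exact h2.symm
  · set T := leviSL (Matrix.SpecialLinearGroup.transvection hij.ne (1 : F))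
    have hT := leviSL_mem (F := F) (UpperSL.isUni_transvection hij (1 : F))
    have h2 := (conj_mem_of_normalizer p hm hg hT).2
    have h1 : b21 g⁻¹ = 0 := b21_eq_zero_of_normalizer p hm (by rw [map_inv]; exact inv_mem hg)
    rw [(mul_blocks _ _).1, h1, Matrix.mul_zero, add_zero, (mul_blocks _ _).1,
      show b21 T = 0 from rfl, Matrix.mul_zero, add_zero] at h2
    exact h2

/-- The image of the unitriangular group as a Sylow subgroup. -/
noncomputable def sylowU (hm : 1 ≤ m) : Sylow p (Cfsg.PSp m F) where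
  toSubgroup := imgU
  isPGroup' := (isPGroup_spUnip p).map _
  is_maximal' := by
    intro Q hQ hle
    by_contra hne
    have : Finite SP := Finite.of_injective _ Subtype.val_injective
    have : Finite (Cfsg.PSp m F) := Finite.of_surjective _ (proj_surjective (m := m) (F := F))
    have : Group.IsNilpotent Q := hQ.isNilpotent
    have hlt : (imgU (m := m) (F := F)).subgroupOf Q < ⊤ :=
      lt_of_le_of_ne le_top fun h => hne (le_antisymm (Subgroup.subgroupOf_eq_top.1 h) hle)
    obtain ⟨⟨y, hyQ⟩, hyN, hyU⟩ := SetLike.exists_of_lt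
      (Group.normalizerCondition_of_isNilpotent ((imgU (m := m) (F := F)).subgroupOf Q) hlt)
    have hyN' : y ∈ Subgroup.normalizer ((imgU (m := m) (F := F)) : Set _) := by
      rw [Subgroup.mem_normalizer_iff]
      intro h
      refine ⟨fun hh => (Subgroup.mem_normalizer_iff.1 hyN ⟨h, hle hh⟩).1 hh, fun hh => ?_⟩
      have h2 := Q.mul_mem (Q.mul_mem (Q.inv_mem hyQ) (hle hh)) hyQ
      have h3 : h ∈ Q := by simpa [mul_assoc] using h2
      exact (Subgroup.mem_normalizer_iff.1 hyN ⟨h, h3⟩).2 hh
    obtain ⟨g, rfl⟩ := proj_surjective y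
    obtain ⟨k, hk⟩ := hQ ⟨proj g, hyQ⟩
    have hk' : g ^ p ^ k ∈ Subgroup.center SP := by
      rw [← proj_eq_one, map_pow]
      exact congrArg Subtype.val hk
    obtain ⟨r, hr⟩ := CfsgLib.Forms4.mem_center_iff.1 hk'
    have hr2 := CfsgLib.Forms4.sq_eq_one_of_scalar hm hr
    obtain ⟨h21, hup⟩ := borel_of_normalizer p hm hyN'
    have hpow : ∀ n : ℕ, b21 (g ^ n) = 0 ∧ b11 (g ^ n) = b11 g ^ n := by
      intro n
      induction n with
      | zero => exact ⟨one_blocks.2.2.1, by rw [pow_zero, pow_zero]; exact one_blocks.1⟩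
      | succ n ih =>
        rw [pow_succ, pow_succ]
        obtain ⟨h1, -, h3, -⟩ := mul_blocks (g ^ n) g
        exact ⟨by rw [h3, ih.1, h21, Matrix.zero_mul, Matrix.mul_zero, add_zero],
          by rw [h1, h21, Matrix.mul_zero, add_zero, ih.2]⟩
    have hrp : r ^ p ^ k = r := by
      rcases hp.out.eq_two_or_odd' with h | h
      · have hF : CharP F 2 := h ▸ hchar
        have : r = 1 := by
          have h2 : (r - 1) ^ 2 = 0 := by
            rw [sub_sq, one_pow, hr2]
            linear_combination (1 - r) * (CharP.cast_eq_zero F 2)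
          exact sub_eq_zero.1 (pow_eq_zero_iff two_ne_zero |>.1 h2)
        rw [this, one_pow]
      · obtain ⟨t, ht⟩ := h.pow (n := k)
        rw [ht, pow_succ, pow_mul, hr2, one_pow, one_mul]
    have hd : ∀ i, b11 g i i = r := by
      intro i
      have h1 : (b11 g ^ p ^ k) i i = r := by
        rw [← (hpow _).2]
        simp [b11, Matrix.toBlocks₁₁, hr]
      rw [(hup.pow _).2] at h1
      have hr0 : r ≠ 0 := fun e => by rw [e] at hr2; simp at hr2
      have h3 : (b11 g i i / r) ^ p ^ k = 1 := by rw [div_pow, h1, hrp, div_self hr0]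
      exact (div_eq_one_iff_eq hr0).1 (UpperSL.eq_one_of_pow_eq_one p h3)
    have hz : (r • (1 : Matrix (Fin m ⊕ Fin m) (Fin m ⊕ Fin m) F)) ∈
        Matrix.symplecticGroup (Fin m) F := hr ▸ (g ^ p ^ k).2
    have hzc : (⟨_, hz⟩ : SP) ∈ Subgroup.center SP := CfsgLib.Forms4.mem_center_of_scalar rfl
    refine hyU (show proj g ∈ imgU (m := m) (F := F) from ⟨⟨_, hz⟩ * g, ?_, ?_⟩)
    · have hv : (⟨_, hz⟩ * g : SP).1 = r • g.1 := by
        show r • (1 : Matrix (Fin m ⊕ Fin m) (Fin m ⊕ Fin m) F) * g.1 = _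
        rw [Matrix.smul_mul, Matrix.one_mul]
      refine mem_spUnip.2 ⟨?_, UpperSL.isUni_of_isUpper (fun i j hij => ?_) fun i => ?_⟩
      · ext i j
        have := congrFun (congrFun h21 i) j
        simp only [b21, Matrix.toBlocks₂₁, of_apply, Matrix.zero_apply] at this ⊢
        rw [hv, Matrix.smul_apply, this, smul_zero]
      · have := hup i j hij
        simp only [b11, Matrix.toBlocks₁₁, of_apply] at this ⊢
        rw [hv, Matrix.smul_apply, this, smul_zero]
      · have := hd i
        simp only [b11, Matrix.toBlocks₁₁, of_apply] at this ⊢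
        rw [hv, Matrix.smul_apply, this, smul_eq_mul, ← sq, hr2]
    · rw [map_mul, proj_eq_one.2 hzc, one_mul]

end CfsgLib.FusionSimple.PSp
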