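/-
A nontrivial closed subgroup of the Sylow subgroup of `PSp_2m` is everything.
-/
import Cfsg.Agent.FusionSimple.PSp.Sylow
import Cfsg.Agent.FusionSimple.Central

set_option autoImplicit false

namespace CfsgLib.FusionSimple.PSp

open Matrix CfsgLib.Forms CfsgLib.RepBounds
open CfsgLib.FusionSimple.UpperSL (IsUni IsUpper)

variable {m : ℕ} {F : Type*} [Field F]

local notation "SP" => Matrix.symplecticGroup (Fin m) F
local notation "SLm" => Matrix.SpecialLinearGroup (Fin m) F

theorem siegelU_injective : Function.Injective (fun S : symMat m F => (siegelU S : SP)) :=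
  fun S T h => Subtype.ext ((siegelU_blocks S).2.1.symm.trans
    ((congrArg b12 h).trans (siegelU_blocks T).2.1))

theorem leviSL_conj_siegel (g : SLm) (S : symMat m F) :
    leviSL g * siegelU S * (leviSL g)⁻¹ =
      siegelU (congrSym (Matrix.SpecialLinearGroup.toGL g) S) :=
  leviEl_conj (Matrix.SpecialLinearGroup.toGL g) S

theorem congrSym_val (g : GL (Fin m) F) (S : symMat m F) :
    (congrSym g S).1 = g.1 * S.1 * g.1ᵀ := rfl

theorem transvection_val {i j : Fin m} (h : i ≠ j) (t : F) :
    (Matrix.SpecialLinearGroup.toGL (Matrix.SpecialLinearGroup.transvection h t)).1 =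
      Matrix.transvection i j t := rfl

/-- Congruence by a transvection. -/
theorem congr_transvection_apply {i j : Fin m} (h : i ≠ j) (t : F) (S : Matrix (Fin m) (Fin m) F)
    (r s : Fin m) :
    (Matrix.transvection i j t * S * (Matrix.transvection i j t)ᵀ) r s =
      S r s + (if r = i then t * S j s else 0) + (if s = i then t * S r j else 0) +
        (if r = i ∧ s = i then t * t * S j j else 0) := by
  simp only [Matrix.transvection, transpose_add, transpose_one, transpose_single, Matrix.add_mul,
    Matrix.mul_add, Matrix.one_mul, Matrix.mul_one, Matrix.add_apply]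
  by_cases hr : r = i <;> by_cases hs : s = i <;>
    simp [hr, hs, Matrix.mul_assoc, Matrix.single_mul_apply_of_ne, Matrix.mul_single_apply_of_ne] <;>
    ring

/-- A symmetric matrix invariant under upper unitriangular congruences. -/
theorem eq_of_invariant (hm : 2 ≤ m) {S : symMat m F}
    (h : ∀ (i j : Fin m) (hij : i < j),
      congrSym (Matrix.SpecialLinearGroup.toGL
        (Matrix.SpecialLinearGroup.transvection hij.ne (1 : F))) S = S) :
    S = longSym ⟨0, by omega⟩ (S.1 ⟨0, by omega⟩ ⟨0, by omega⟩) +
      shortSym ⟨0, by omega⟩ ⟨1, hm⟩ (S.1 ⟨0, by omega⟩ ⟨1, hm⟩) := by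
  set o : Fin m := ⟨0, by omega⟩ with ho
  set l : Fin m := ⟨1, hm⟩ with hl
  have hol : o < l := Nat.zero_lt_one
  have key : ∀ (i j : Fin m) (hij : i < j) (s : Fin m), s ≠ i → S.1 j s = 0 := by
    intro i j hij s hs
    have h1 := congrArg (fun X : symMat m F => X.1 i s) (h i j hij)
    simp only [congrSym_val, transvection_val, congr_transvection_apply hij.ne, hs, ↓reduceIte,
      and_false, add_zero, one_mul] at h1
    simpa using h1
  have hsym : ∀ r s, S.1 r s = S.1 s r := fun r s => congrFun (congrFun S.2 s) r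
  -- only the entries `(o,o)`, `(o,l)`, `(l,o)` may be nonzero
  have hzero : ∀ r s : Fin m, r ≠ o → ¬ (r = l ∧ s = o) → S.1 r s = 0 := by
    intro r s hr hrs
    have hor : o < r := by
      show 0 < r.val
      exact Nat.pos_of_ne_zero fun e => hr (Fin.ext e)
    by_cases hs : s = o
    · have hrl : r ≠ l := fun e => hrs ⟨e, hs⟩
      have hlr : l < r := by
        have h1 : r.val ≠ 1 := fun e => hrl (Fin.ext e)
        have h2 : 0 < r.val := hor
        show 1 < r.val
        omega
      exact key l r hlr s (hs ▸ hol.ne)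
    · exact key o r hor s hs
  apply Subtype.ext
  ext r s
  show S.1 r s = (diagonal fun j => if j = o then S.1 o o else 0) r s +
    (Matrix.single o l (S.1 o l) + Matrix.single l o (S.1 o l)) r s
  simp only [Matrix.add_apply, Matrix.diagonal_apply, Matrix.single_apply]
  by_cases hr : r = o
  · by_cases hs : s = o
    · simp [hr, hs, hol.ne, hol.ne']
    · by_cases hs' : s = l
      · simp [hr, hs', hol.ne, hol.ne']
      · have : S.1 r s = 0 := by
          rw [hsym]
          exact hzero s r hs fun e => hs' e.1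
        simp [hr, this, hr ▸ this, Ne.symm hs, Ne.symm hs', hol.ne, hol.ne']
  · by_cases hrs : r = l ∧ s = o
    · simp [hrs.1, hrs.2, hol.ne, hol.ne', hsym l o]
    · rw [hzero r s hr hrs]
      by_cases h1 : r = l
      · have : s ≠ o := fun e => hrs ⟨h1, e⟩
        simp [h1, hol.ne, hol.ne', Ne.symm this]
      · simp [hr, Ne.symm hr, Ne.symm h1]

/-- A scaling of two coordinates by inverse scalars. -/
noncomputable def scale2 {i j : Fin m} (h : i ≠ j) (a : F) (ha : a ≠ 0) : GL (Fin m) F :=
  Matrix.SpecialLinearGroup.toGL (Matrix.SpecialLinearGroup.diag2n h a ha)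

theorem congr_diag_apply (d : Fin m → F) (hd : ∀ i, d i ≠ 0) (S : symMat m F) (r s : Fin m) :
    (congrSym (diagGL d hd) S).1 r s = d r * S.1 r s * d s := by
  rw [congrSym_val]
  show (diagonal d * S.1 * (diagonal d)ᵀ) r s = _
  rw [diagonal_transpose, mul_diagonal, diagonal_mul]

theorem longSym_add (i : Fin m) (a b : F) : longSym i (a + b) = longSym i a + longSym i b := by
  refine Subtype.ext (Matrix.ext fun r s => ?_)
  simp only [Submodule.coe_add, longSym, Matrix.add_apply, Matrix.diagonal_apply]
  split_ifs <;> simp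

theorem shortSym_add (k l : Fin m) (a b : F) :
    shortSym k l (a + b) = shortSym k l a + shortSym k l b := by
  refine Subtype.ext (Matrix.ext fun r s => ?_)
  simp only [Submodule.coe_add, shortSym, Matrix.add_apply, Matrix.single_apply]
  split_ifs <;> ring

theorem longSym_zero (i : Fin m) : longSym i (0 : F) = 0 := Subtype.ext (by simp [longSym])

theorem shortSym_zero (k l : Fin m) : shortSym k l (0 : F) = 0 := Subtype.ext (by simp [shortSym])

theorem shortSym_comm (k l : Fin m) (c : F) : shortSym k l c = shortSym l k c :=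
  Subtype.ext (add_comm _ _)

theorem congr_diag_long (d : Fin m → F) (hd : ∀ i, d i ≠ 0) (i : Fin m) (c : F) :
    congrSym (diagGL d hd) (longSym i c) = longSym i (d i * d i * c) := by
  refine Subtype.ext (Matrix.ext fun r s => ?_)
  rw [congr_diag_apply]
  simp only [longSym, Matrix.diagonal_apply]
  split_ifs with h1 h2
  · subst h1; subst h2; ring
  · ring
  · ring

theorem congr_diag_short (d : Fin m → F) (hd : ∀ i, d i ≠ 0) (k l : Fin m) (c : F) :
    congrSym (diagGL d hd) (shortSym k l c) = shortSym k l (d k * d l * c) := by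
  refine Subtype.ext (Matrix.ext fun r s => ?_)
  rw [congr_diag_apply]
  simp only [shortSym, Matrix.add_apply, Matrix.single_apply]
  split_ifs with h1 h2 h2
  · rw [← h1.1, ← h1.2]; ring
  · rw [← h1.1, ← h1.2]; ring
  · rw [← h2.1, ← h2.2]; ring
  · ring

/-- The elementary congruence adding the index `j` to the index `i`. -/
noncomputable def tvGL {i j : Fin m} (h : i ≠ j) (t : F) : GL (Fin m) F :=
  Matrix.SpecialLinearGroup.toGL (Matrix.SpecialLinearGroup.transvection h t)

theorem congr_tv_apply {i j : Fin m} (h : i ≠ j) (t : F) (S : symMat m F) (r s : Fin m) :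
    (congrSym (tvGL h t) S).1 r s =
      S.1 r s + (if r = i then t * S.1 j s else 0) + (if s = i then t * S.1 r j else 0) +
        (if r = i ∧ s = i then t * t * S.1 j j else 0) := by
  rw [congrSym_val]
  exact congr_transvection_apply h t S.1 r s

theorem longSym_val (i : Fin m) (c : F) : (longSym i c).1 = Matrix.single i i c := by
  ext r s
  simp only [longSym, Matrix.diagonal_apply, Matrix.single_apply]
  by_cases h1 : r = s
  · subst h1
    by_cases h2 : r = i
    · simp [h2]
    · simp [h2, Ne.symm h2]
  · rw [if_neg h1, if_neg fun h => h1 (h.1.symm.trans h.2)]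

theorem shortSym_val (k l : Fin m) (c : F) :
    (shortSym k l c).1 = Matrix.single k l c + Matrix.single l k c := rfl

theorem congr_tv_val {i j : Fin m} (h : i ≠ j) (t : F) (S : symMat m F) :
    (congrSym (tvGL h t) S).1 =
      S.1 + Matrix.single i j t * S.1 + S.1 * Matrix.single j i t +
        Matrix.single i j t * S.1 * Matrix.single j i t := by
  rw [congrSym_val]
  show Matrix.transvection i j t * S.1 * (Matrix.transvection i j t)ᵀ = _
  simp only [Matrix.transvection, transpose_add, transpose_one, transpose_single, Matrix.add_mul,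
    Matrix.mul_add, Matrix.one_mul, Matrix.mul_one]
  abel

theorem congr_tv_long_self {i j : Fin m} (h : i ≠ j) (t c : F) :
    congrSym (tvGL h t) (longSym j c) = longSym j c + shortSym i j (t * c) + longSym i (t * t * c) := by
  refine Subtype.ext ?_
  simp only [congr_tv_val, Submodule.coe_add, longSym_val, shortSym_val,
    Matrix.single_mul_single_same]
  rw [mul_comm c t, show t * c * t = t * t * c by ring]
  abel

theorem congr_tv_long {i j o : Fin m} (h : i ≠ j) (ho : o ≠ j) (t c : F) :
    congrSym (tvGL h t) (longSym o c) = longSym o c := by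
  refine Subtype.ext ?_
  simp [congr_tv_val, longSym_val, ho, ho.symm]

theorem congr_tv_short_fix {i j o l : Fin m} (h : i ≠ j) (ho : o ≠ j) (hl : l ≠ j) (t c : F) :
    congrSym (tvGL h t) (shortSym o l c) = shortSym o l c := by
  refine Subtype.ext ?_
  simp [congr_tv_val, shortSym_val, Matrix.mul_add, Matrix.add_mul, ho, ho.symm, hl, hl.symm]

theorem congr_tv_short_move {i j o : Fin m} (h : i ≠ j) (hoj : o ≠ j) (t c : F) :
    congrSym (tvGL h t) (shortSym o j c) = shortSym o j c + shortSym o i (t * c) := by
  refine Subtype.ext ?_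
  simp [congr_tv_val, shortSym_val, Matrix.mul_add, Matrix.add_mul, hoj, hoj.symm, mul_comm c t]
  abel

theorem congr_tv_short_self {i j : Fin m} (h : i ≠ j) (t c : F) :
    congrSym (tvGL h t) (shortSym i j c) = shortSym i j c + longSym i (t * c + t * c) := by
  refine Subtype.ext ?_
  simp [congr_tv_val, shortSym_val, longSym_val, Matrix.mul_add, Matrix.add_mul, h, h.symm,
    mul_comm c t, Matrix.single_add]
  abel

variable [Finite F] (p : ℕ) [hp : Fact p.Prime] [hchar : CharP F p]

section closed

variable {T : Subgroup (Cfsg.PSp m F)} (hT : Closed (imgU (m := m) (F := F)) T)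

/-- The symmetric matrices whose Siegel elements land in `T`. -/
noncomputable def symIn (T : Subgroup (Cfsg.PSp m F)) : AddSubgroup (symMat m F) where
  carrier := {S | proj (siegelU S) ∈ T}
  zero_mem' := by
    show proj (siegelU (0 : symMat m F)) ∈ T
    rw [AddChar.map_zero_eq_one, map_one]
    exact one_mem T
  add_mem' {a b} ha hb := by
    show proj (siegelU (a + b)) ∈ T
    rw [AddChar.map_add_eq_mul, map_mul]
    exact mul_mem ha hb
  neg_mem' {a} ha := by
    show proj (siegelU (-a)) ∈ T
    have : (siegelU (-a) : SP) = (siegelU a)⁻¹ := eq_inv_of_mul_eq_one_left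
      (by rw [← AddChar.map_add_eq_mul, neg_add_cancel, AddChar.map_zero_eq_one])
    rw [this, map_inv]
    exact inv_mem ha

omit [Finite F] in
theorem mem_symIn {S : symMat m F} : S ∈ symIn T ↔ proj (siegelU S) ∈ T := Iff.rfl

include hT in
theorem conj_mem_T {x : SP} (hx : proj x ∈ T) (g : SP)
    (hu : g * x * g⁻¹ ∈ spUnip (m := m) (F := F)) : proj (g * x * g⁻¹) ∈ T := by
  rw [map_mul, map_mul, map_inv]
  exact hT.2 _ hx _ ⟨_, hu, by rw [map_mul, map_mul, map_inv]⟩

include hT in
theorem congr_mem {S : symMat m F} (hS : S ∈ symIn T) (g : GL (Fin m) F) :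
    congrSym g S ∈ symIn T := by
  have h := conj_mem_T hT (mem_symIn.1 hS) (leviEl g)
    (by rw [leviEl_conj]; exact siegelU_mem _)
  rwa [leviEl_conj] at h

include hT in
theorem short_mem_of_short {k l : Fin m} (hkl : k ≠ l) {b : F} (hb : b ≠ 0)
    (h : shortSym k l b ∈ symIn T) (c : F) : shortSym k l c ∈ symIn T := by
  by_cases hc : c = 0
  · rw [hc, show shortSym k l (0 : F) = 0 from Subtype.ext (by simp [shortSym])]
    exact zero_mem _
  have h1 := congr_mem hT h (diagGL (fun j => if j = k then c / b else 1)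
    (fun j => by by_cases e : j = k <;> simp [e, hc, hb]))
  rwa [congr_diag_short, if_pos rfl, if_neg hkl.symm, mul_one, div_mul_cancel₀ c hb] at h1

include hT in
theorem long_mem_of_short (hm : 2 ≤ m) {b : F} (hb : b ≠ 0)
    (h : shortSym (⟨0, by omega⟩ : Fin m) ⟨1, hm⟩ b ∈ symIn T) :
    ∃ a : F, a ≠ 0 ∧ longSym (⟨0, by omega⟩ : Fin m) a ∈ symIn T := by
  set o : Fin m := ⟨0, by omega⟩
  set l : Fin m := ⟨1, hm⟩
  have hol : o < l := Nat.zero_lt_one
  set X := Matrix.SpecialLinearGroup.transvection hol.ne (1 : F)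
  -- the Levi root element lies in `T`
  have hX : proj (leviSL X) ∈ T := by
    have hw : (wElt l : SP)⁻¹ * siegelU (shortSym o l (-1)) * (wElt l)⁻¹⁻¹ = leviSL X := by
      rw [inv_inv, mul_assoc, ← wElt_mul_levi hol.ne (1 : F), inv_mul_cancel_left]
    have h1 := conj_mem_T hT (mem_symIn.1 (short_mem_of_short hT hol.ne hb h (-1))) (wElt l)⁻¹
      (by rw [hw]; exact leviSL_mem (UpperSL.isUni_transvection hol 1))
    rwa [hw] at h1
  -- its commutator with the long root element at `l`
  set Z := longSym l (1 : F)
  set Z' := congrSym (Matrix.SpecialLinearGroup.toGL X) Z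
  have hcomm : proj (siegelU (Z' - Z)) ∈ T := by
    have h1 := conj_mem_T hT (inv_mem hX |> fun h => (map_inv proj (leviSL X)).symm ▸ h)
      (siegelU Z)
      (mul_mem (mul_mem (siegelU_mem Z) (inv_mem (leviSL_mem (UpperSL.isUni_transvection hol 1))))
        (inv_mem (siegelU_mem Z)))
    have h2 := mul_mem hX h1
    rw [← map_mul] at h2
    convert h2 using 2
    rw [sub_eq_add_neg, AddChar.map_add_eq_mul, ← leviSL_conj_siegel]
    rw [show (siegelU (-Z) : SP) = (siegelU Z)⁻¹ from eq_inv_of_mul_eq_one_left
      (by rw [← AddChar.map_add_eq_mul, neg_add_cancel, AddChar.map_zero_eq_one])]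
    simp only [X]
    group
  have h3 : Z' - Z - shortSym o l 1 ∈ symIn T :=
    sub_mem (mem_symIn.2 hcomm) (short_mem_of_short hT hol.ne hb h 1)
  refine ⟨1, one_ne_zero, ?_⟩
  convert h3 using 1
  show _ = congrSym (tvGL hol.ne (1 : F)) (longSym l 1) - longSym l 1 - shortSym o l 1
  rw [congr_tv_long_self]
  simp only [mul_one]
  abel

include hT in
theorem all_long_mem (hm : 2 ≤ m) {a : F} (ha : a ≠ 0)
    (h : longSym (⟨0, by omega⟩ : Fin m) a ∈ symIn T) (i : Fin m) (c : F) :
    longSym i c ∈ symIn T := by
  have := Fintype.ofFinite F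
  set o : Fin m := ⟨0, by omega⟩
  -- squares at the first index
  have hsq : ∀ s : F, longSym o (s * s * a) ∈ symIn T := by
    intro s
    by_cases hs : s = 0
    · rw [hs, show longSym o ((0 : F) * 0 * a) = 0 from Subtype.ext (by simp [longSym])]
      exact zero_mem _
    have h1 := congr_mem hT h (diagGL (fun j => if j = o then s else 1)
      (fun j => by by_cases e : j = o <;> simp [e, hs]))
    rwa [congr_diag_long, if_pos rfl] at h1
  have hall : ∀ c : F, longSym o c ∈ symIn T := by
    intro c
    obtain ⟨x, y, hxy⟩ : ∃ x y : F, x ^ 2 + y ^ 2 = c / a := by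
      by_cases h2 : ringChar F = 2
      · obtain ⟨x, hx⟩ := FiniteField.isSquare_of_char_two h2 (c / a)
        exact ⟨x, 0, by rw [hx]; ring⟩
      · obtain ⟨x, y, hxy⟩ := FiniteField.exists_root_sum_quadratic
          (f := (Polynomial.X : Polynomial F) ^ 2) (g := (Polynomial.X : Polynomial F) ^ 2 - Polynomial.C (c / a))
          (Polynomial.degree_X_pow 2) (Polynomial.degree_X_pow_sub_C two_pos _)
          (FiniteField.odd_card_of_char_ne_two h2)
        refine ⟨x, y, sub_eq_zero.1 (Eq.trans ?_ hxy)⟩
        simp only [Polynomial.eval_pow, Polynomial.eval_X, Polynomial.eval_sub, Polynomial.eval_C]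
        ring
    have h1 := add_mem (hsq x) (hsq y)
    rwa [← longSym_add, show x * x * a + y * y * a = c by
      rw [← add_mul, show x * x + y * y = x ^ 2 + y ^ 2 by ring, hxy, div_mul_cancel₀ c ha]] at h1
  by_cases hi : i = o
  · rw [hi]; exact hall c
  -- two congruences move the index
  have hio : i ≠ o := hi
  have h2 := congr_mem hT (congr_mem hT (hall c) (tvGL hio (1 : F))) (tvGL hio.symm (-1 : F))
  convert h2 using 1
  rw [congr_tv_long_self, map_add, map_add, congr_tv_long hio.symm hio.symm, congr_tv_long_self,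
    shortSym_comm i o, congr_tv_short_self hio.symm, one_mul, one_mul, one_mul]
  have e1 : shortSym o i ((-1 : F) * c) = -shortSym o i c := eq_neg_of_add_eq_zero_right (by
    rw [← shortSym_add, neg_one_mul, add_neg_cancel, shortSym_zero])
  have e2 : longSym o ((-1 : F) * c + -1 * c) + longSym o ((-1 : F) * -1 * c) = -longSym o c :=
    eq_neg_of_add_eq_zero_right (by rw [← longSym_add, ← longSym_add,
      show c + ((-1 : F) * c + -1 * c + -1 * -1 * c) = 0 by ring, longSym_zero])
  rw [e1]
  linear_combination (norm := abel) -e2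

include hT in
theorem all_short_mem (hm : 2 ≤ m) {a : F} (ha : a ≠ 0)
    (h : longSym (⟨0, by omega⟩ : Fin m) a ∈ symIn T) {k l : Fin m} (hkl : k ≠ l) (c : F) :
    shortSym k l c ∈ symIn T := by
  have h1 := congr_mem hT (all_long_mem hT hm ha h l 1) (tvGL hkl c)
  have h2 := sub_mem (sub_mem h1 (all_long_mem hT hm ha h l 1)) (all_long_mem hT hm ha h k (c * c))
  convert h2 using 1
  rw [congr_tv_long_self]
  simp only [mul_one]
  abel

include hT in
theorem all_mem (hm : 2 ≤ m) {a : F} (ha : a ≠ 0)
    (h : longSym (⟨0, by omega⟩ : Fin m) a ∈ symIn T) (S : symMat m F) : S ∈ symIn T := by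
  suffices hsum : S = ∑ i, longSym i (S.1 i i) +
      ∑ x ∈ (Finset.univ.filter fun x : Fin m × Fin m => x.1 < x.2), shortSym x.1 x.2 (S.1 x.1 x.2) by
    rw [hsum]
    exact add_mem (sum_mem fun i _ => all_long_mem hT hm ha h i _)
      (sum_mem fun x hx => all_short_mem hT hm ha h (Finset.mem_filter.1 hx).2.ne _)
  refine Subtype.ext (Matrix.ext fun r t => ?_)
  rw [Submodule.coe_add, Submodule.coe_sum, Submodule.coe_sum, Matrix.add_apply, Matrix.sum_apply,
    Matrix.sum_apply]
  have hdiag : ∑ i, (longSym i (S.1 i i)).1 r t = if r = t then S.1 r r else 0 := by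
    rcases eq_or_ne r t with rfl | hrt
    · rw [Finset.sum_eq_single r]
      · simp [longSym]
      · intro i _ hi
        simp [longSym, Ne.symm hi]
      · simp
    · rw [if_neg hrt]
      exact Finset.sum_eq_zero fun i _ => by simp [longSym, hrt]
  have hsh : ∀ x : Fin m × Fin m, (shortSym x.1 x.2 (S.1 x.1 x.2)).1 r t =
      (if x = (r, t) then S.1 x.1 x.2 else 0) + (if x = (t, r) then S.1 x.1 x.2 else 0) := by
    rintro ⟨u, v⟩
    simp [shortSym, Matrix.single_apply, Prod.ext_iff, and_comm, eq_comm]
  rw [hdiag, Finset.sum_congr rfl fun x _ => hsh x, Finset.sum_add_distrib, Finset.sum_ite_eq',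
    Finset.sum_ite_eq']
  have hsym : S.1 r t = S.1 t r := congrFun (congrFun S.2 t) r
  rcases lt_trichotomy r t with hlt | heq | hgt
  · simp [hlt, hlt.ne, lt_asymm hlt]
  · subst heq
    simp
  · simp [hgt, hgt.ne', lt_asymm hgt, hsym]

include hT in
theorem levi_root_mem (hm : 2 ≤ m) {a : F} (ha : a ≠ 0)
    (h : longSym (⟨0, by omega⟩ : Fin m) a ∈ symIn T) {k i : Fin m} (hki : k < i) (b : F) :
    proj (leviSL (Matrix.SpecialLinearGroup.transvection hki.ne b)) ∈ T := by
  have hw : (wElt i : SP)⁻¹ * siegelU (shortSym k i (-b)) * (wElt i)⁻¹⁻¹ =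
      leviSL (Matrix.SpecialLinearGroup.transvection hki.ne b) := by
    rw [inv_inv, mul_assoc, ← wElt_mul_levi hki.ne b, inv_mul_cancel_left]
  have h1 := conj_mem_T hT (mem_symIn.1 (all_short_mem hT hm ha h hki.ne (-b))) (wElt i)⁻¹
    (by rw [hw]; exact leviSL_mem (UpperSL.isUni_transvection hki b))
  rwa [hw] at h1

include hT in
theorem eq_of_long_mem (hm : 2 ≤ m) {a : F} (ha : a ≠ 0)
    (h : longSym (⟨0, by omega⟩ : Fin m) a ∈ symIn T) : T = imgU (m := m) (F := F) := by
  refine le_antisymm hT.1 ?_
  rintro _ ⟨A, hA, rfl⟩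
  obtain ⟨S, g, hg, -, rfl⟩ := exists_decomp hA
  rw [map_mul]
  refine mul_mem (all_mem hT hm ha h S) ?_
  suffices hle : Subgroup.closure {g : SLm | ∃ (i j : Fin m) (hij : i < j) (c : F),
      c ≠ 0 ∧ g = Matrix.SpecialLinearGroup.transvection hij.ne c} ≤ T.comap (proj.comp leviSL) from
    hle (UpperSL.isUni_mem_closure hg)
  rw [Subgroup.closure_le]
  rintro _ ⟨i, j, hij, c, -, rfl⟩
  exact levi_root_mem hT hm ha h hij c

end closed

include hp hchar

/-- Closed subgroups of the Sylow subgroup. -/
theorem eq_bot_or_eq_of_closed (hm : 2 ≤ m) (hex : m = 2 → 3 ≤ Nat.card F) {T : Subgroup (Cfsg.PSp m F)}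
    (hT : Closed (imgU (m := m) (F := F)) T) : T = ⊥ ∨ T = imgU (m := m) (F := F) := by
  by_cases hT0 : T = ⊥
  · exact Or.inl hT0
  right
  have : Finite SP := Finite.of_injective _ Subtype.val_injective
  have : Finite (Cfsg.PSp m F) := Finite.of_surjective _ (proj_surjective (m := m) (F := F))
  obtain ⟨z, hzT, hz1, hzc⟩ := exists_central_of_closed (p := p)
    ((isPGroup_spUnip p).map _ : IsPGroup p (imgU (m := m) (F := F))) hT hT0
  obtain ⟨A, hA, rfl⟩ := hT.1 hzT
  have hcomm : ∀ u ∈ spUnip (m := m) (F := F), u * A = A * u := fun u hu => by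
    refine proj_inj p (by omega) (mul_mem hu hA) (mul_mem hA hu) ?_
    rw [map_mul, map_mul]
    exact hzc _ ⟨u, hu, rfl⟩
  obtain ⟨S, g, hg, -, rfl⟩ := exists_decomp hA
  -- the Levi part is trivial
  have hg1 : g = 1 := by
    have hfix : ∀ X : symMat m F, congrSym (Matrix.SpecialLinearGroup.toGL g) X = X := by
      intro X
      have h1 := hcomm _ (siegelU_mem X)
      have h2 : leviSL g * siegelU X * (leviSL g)⁻¹ = siegelU X := by
        rw [mul_inv_eq_iff_eq_mul]
        refine mul_left_cancel (a := siegelU S) ?_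
        rw [← mul_assoc, ← h1, ← mul_assoc, ← mul_assoc, ← AddChar.map_add_eq_mul,
          ← AddChar.map_add_eq_mul, add_comm]
      rw [leviSL_conj_siegel] at h2
      exact siegelU_injective h2
    refine Subtype.ext (Matrix.ext fun r i => ?_)
    rw [Matrix.SpecialLinearGroup.coe_one]
    rcases eq_or_ne r i with rfl | hri
    · rw [hg.apply_self, Matrix.one_apply_eq]
    · have h1 := congrArg (fun X : symMat m F => X.1 r r) (hfix (longSym i 1))
      rw [Matrix.one_apply_ne hri]
      simp only [congrSym_val] at h1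
      rw [Matrix.mul_apply, Finset.sum_eq_single i] at h1
      · rw [Matrix.mul_apply, Finset.sum_eq_single i] at h1
        · simp [longSym, hri] at h1
          exact h1
        · intro k _ hk
          simp [longSym, hk]
        · simp
      · intro k _ hk
        rw [Matrix.mul_apply, Finset.sum_eq_zero, zero_mul]
        intro l _
        simp [longSym, Matrix.diagonal_apply]
        intro e; subst e; simp [hk]
      · simp
  rw [hg1, map_one, mul_one] at hzT hz1 hcomm
  have hinv : ∀ (i j : Fin m) (hij : i < j), congrSym (Matrix.SpecialLinearGroup.toGL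
      (Matrix.SpecialLinearGroup.transvection hij.ne (1 : F))) S = S := fun i j hij => by
    refine siegelU_injective ?_
    show siegelU _ = siegelU S
    rw [← leviSL_conj_siegel, mul_inv_eq_iff_eq_mul]
    exact hcomm _ (leviSL_mem (UpperSL.isUni_transvection hij 1))
  have hS := eq_of_invariant hm hinv
  set o : Fin m := ⟨0, by omega⟩
  set l : Fin m := ⟨1, hm⟩
  have hol : o < l := Nat.zero_lt_one
  set a := S.1 o o
  set b := S.1 o l
  have hST : longSym o a + shortSym o l b ∈ symIn T := hS ▸ (mem_symIn.2 hzT)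
  have hshort : b ≠ 0 → ∃ b' : F, b' ≠ 0 ∧ shortSym o l b' ∈ symIn T := by
    intro hb
    by_cases h3 : ∃ s : F, s ≠ 0 ∧ s ≠ 1
    · obtain ⟨s, hs0, hs1⟩ := h3
      have h1 := sub_mem (congr_mem hT hST (diagGL (fun j => if j = l then s else 1)
        (fun j => by by_cases e : j = l <;> simp [e, hs0]))) hST
      refine ⟨b * (s - 1), mul_ne_zero hb (sub_ne_zero.2 hs1), ?_⟩
      convert h1 using 1
      rw [map_add, congr_diag_long, congr_diag_short, if_neg hol.ne, if_pos rfl, one_mul, one_mul,
        one_mul, add_sub_add_left_eq_sub, eq_sub_iff_add_eq, ← shortSym_add]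
      congr 1
      ring
    · -- the field has two elements
      push Not at h3
      have h2 : ∀ s : F, s = 0 ∨ s = 1 := fun s =>
        (em (s = 0)).imp_right fun h => h3 s h
      have hcard : Nat.card F ≤ 2 := by
        have : Function.Surjective fun b : Bool => if b then (1 : F) else 0 := fun s => by
          rcases h2 s with h | h
          · exact ⟨false, by simp [h]⟩
          · exact ⟨true, by simp [h]⟩
        simpa using Nat.card_le_card_of_surjective _ this
      have hm3 : 2 < m := by
        by_contra h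
        have := hex (by omega)
        omega
      have hb1 : b = 1 := (h2 b).resolve_left hb
      have h11 : (1 : F) + 1 = 0 := (h2 _).resolve_right (fun e => one_ne_zero (add_eq_left.1 e))
      set q : Fin m := ⟨2, hm3⟩
      have hlq : l < q := Nat.one_lt_two
      -- congruence adding `l` to `q`
      have hol' : o ≠ l := hol.ne
      have hlq' : l ≠ q := hlq.ne
      have hoq : o ≠ q := (hol.trans hlq).ne
      have h1 := sub_mem (congr_mem hT hST (tvGL hlq'.symm (1 : F))) hST
      -- exchange `l` and `q` by two congruences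
      have h4 := congr_mem hT (congr_mem hT h1 (tvGL hlq' (1 : F))) (tvGL hlq'.symm (-1 : F))
      refine ⟨1, one_ne_zero, ?_⟩
      convert h4 using 1
      rw [map_add, congr_tv_long hlq'.symm hol', congr_tv_short_move hlq'.symm hol', one_mul,
        hb1, add_sub_add_left_eq_sub, add_sub_cancel_left, congr_tv_short_move hlq' hoq,
        one_mul, map_add, congr_tv_short_move hlq'.symm hol']
      have e : shortSym o q ((-1 : F) * 1) = -shortSym o q 1 := eq_neg_of_add_eq_zero_right (by
        rw [← shortSym_add, show (1 : F) + -1 * 1 = 0 by ring, shortSym_zero])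
      have e0 := congr_tv_short_fix (o := o) (l := q) hlq'.symm hol' hlq'.symm (-1 : F) 1
      rw [e0, e]
      abel
  by_cases hb : b = 0
  · have ha : a ≠ 0 := by
      intro ha
      refine hz1 ?_
      rw [hS, ha, hb, show longSym o (0 : F) + shortSym o l 0 = 0 from
        Subtype.ext (by simp [longSym, shortSym]), AddChar.map_zero_eq_one, map_one]
    refine eq_of_long_mem hT hm ha ?_
    rwa [hb, show shortSym o l (0 : F) = 0 from Subtype.ext (by simp [shortSym]), add_zero] at hST
  · obtain ⟨b', hb', hmem⟩ := hshort hb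
    obtain ⟨a', ha', hmem'⟩ := long_mem_of_short hT hm hb' hmem
    exact eq_of_long_mem hT hm ha' hmem'

end CfsgLib.FusionSimple.PSp
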