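/-
The normalizer of the Sylow subgroup of `PSp_2m` is generated by basic elements.
-/
import Cfsg.Agent.FusionSimple.PSp.Closed

set_option autoImplicit false

namespace CfsgLib.FusionSimple.PSp

open Matrix CfsgLib.Forms CfsgLib.RepBounds
open CfsgLib.FusionSimple.UpperSL (IsUni IsUpper)

variable {m : ℕ} {F : Type*} [Field F]

local notation "SP" => Matrix.symplecticGroup (Fin m) F
local notation "SLm" => Matrix.SpecialLinearGroup (Fin m) F

/-- The Siegel radical as a subgroup. -/
noncomputable def siegelGrp : Subgroup SP where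
  carrier := Set.range fun S : symMat m F => (siegelU S : SP)
  one_mem' := ⟨0, AddChar.map_zero_eq_one _⟩
  mul_mem' := by
    rintro _ _ ⟨a, rfl⟩ ⟨b, rfl⟩
    exact ⟨a + b, AddChar.map_add_eq_mul _ a b⟩
  inv_mem' := by
    rintro _ ⟨a, rfl⟩
    exact ⟨-a, eq_inv_of_mul_eq_one_left
      (by rw [← AddChar.map_add_eq_mul, neg_add_cancel, AddChar.map_zero_eq_one])⟩

theorem conj_siegelGrp {g u : SP} (hg : b21 g = 0) (hu : u ∈ siegelGrp (m := m) (F := F)) :
    g * u * g⁻¹ ∈ siegelGrp (m := m) (F := F) := by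
  obtain ⟨S, h, -, rfl, -⟩ := exists_siegel_levi hg
  obtain ⟨X, rfl⟩ := hu
  have hU : ∀ S : symMat m F, (siegelU S : SP) ∈ siegelGrp (m := m) (F := F) := fun S => ⟨S, rfl⟩
  have h1 : leviHom h * siegelU X * (leviHom h)⁻¹ ∈ siegelGrp (m := m) (F := F) :=
    ⟨congrSym h X, (leviEl_conj h X).symm⟩
  rw [show siegelU S * leviHom h * siegelU X * (siegelU S * leviHom h)⁻¹ =
    siegelU S * (leviHom h * siegelU X * (leviHom h)⁻¹) * (siegelU S)⁻¹ by group]
  exact mul_mem (mul_mem (hU S) h1) (inv_mem (hU S))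

theorem lowerElt_mul (i : Fin m) (c d : F) :
    (lowerElt i c * lowerElt i d : SP) = lowerElt i (c + d) := by
  rw [lowerElt, lowerElt, diagBlocks_mul]
  refine diagBlocks_congr ?_ ?_ ?_ ?_ <;> intro j <;> by_cases h : j = i <;> simp [h]

theorem lowerElt_zero (i : Fin m) : (lowerElt i (0 : F) : SP) = 1 := by
  refine Subtype.ext ?_
  show fromBlocks _ _ _ _ = (1 : Matrix (Fin m ⊕ Fin m) (Fin m ⊕ Fin m) F)
  simp

theorem lowerElt_inv (i : Fin m) (c : F) : (lowerElt i c : SP)⁻¹ = lowerElt i (-c) :=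
  inv_eq_of_mul_eq_one_right (by rw [lowerElt_mul, add_neg_cancel, lowerElt_zero])

theorem lowerElt_blocks (i : Fin m) (c : F) :
    b11 (lowerElt i c : SP) = 1 ∧ b12 (lowerElt i c : SP) = 0 ∧
      b21 (lowerElt i c : SP) = Matrix.single i i c ∧ b22 (lowerElt i c : SP) = 1 := by
  refine ⟨(toBlocks_fromBlocks₁₁ _ _ _ _).trans diagonal_one,
    (toBlocks_fromBlocks₁₂ _ _ _ _).trans diagonal_zero,
    (toBlocks_fromBlocks₂₁ _ _ _ _).trans (longSym_val i c),
    (toBlocks_fromBlocks₂₂ _ _ _ _).trans diagonal_one⟩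

theorem det_diagonal_mul_oneAt {d : Fin m → F} (hd : ∀ i, d i ≠ 0) (l : Fin m) :
    ∃ (D : SLm) (a : Fˣ) (e : Fin m → F) (he : ∀ i, e i ≠ 0),
      Matrix.SpecialLinearGroup.toGL D = diagGL e he ∧
      diagGL d hd = Matrix.SpecialLinearGroup.toGL D * oneAt l a := by
  let a : Fˣ := Units.mk0 (∏ i, d i) (Finset.prod_ne_zero_iff.2 fun i _ => hd i)
  let e : Fin m → F := fun j => if j = l then d j / (a : F) else d j
  have he : ∏ j, e j = 1 := by
    have : ∀ j, e j = d j * (if j = l then (a : F)⁻¹ else 1) := fun j => by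
      by_cases h : j = l <;> simp [e, h, div_eq_mul_inv]
    simp only [this, Finset.prod_mul_distrib, Finset.prod_ite_eq', Finset.mem_univ, if_true]
    exact mul_inv_cancel₀ a.ne_zero
  refine ⟨⟨diagonal e, by rw [det_diagonal]; exact he⟩, a, e, fun i => ?_, Units.ext rfl, Units.ext ?_⟩
  · exact Finset.prod_ne_zero_iff.1 (he ▸ one_ne_zero) i (Finset.mem_univ i)
  show diagonal d = diagonal e * diagonal _
  rw [diagonal_mul_diagonal]
  refine congrArg diagonal (funext fun j => ?_)
  by_cases h : j = l <;> simp [e, h]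

variable [Finite F]

/-- The members of the unitriangular group without the last long root coordinate. -/
theorem b12_last {A B : SP} (hA : A ∈ spUnip (m := m) (F := F)) (hB : B ∈ spUnip (m := m) (F := F))
    {l : Fin m} (hl : ∀ j, j ≤ l) :
    b12 (A * B) l l = b12 A l l + b12 B l l ∧ b22 B l l = 1 ∧ ∀ j, j ≠ l → b22 B j l = 0 := by
  obtain ⟨S, g, hg, -, e⟩ := exists_decomp hB
  have hgi : IsUni (g⁻¹).1 :=
    (UpperSL.upperUnip m F).inv_mem (x := g) hg
  have h22 : b22 B = ((g⁻¹ : SLm).1)ᵀ := by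
    rw [e, (mul_blocks _ _).2.2.2, (siegelU_blocks S).2.2.1, (siegelU_blocks S).2.2.2,
      Matrix.zero_mul, zero_add, Matrix.one_mul]
    exact ((leviHom_blocks _).2.2.2).trans (by rw [← map_inv]; rfl)
  have hcol : ∀ j, b22 B j l = (1 : Matrix (Fin m) (Fin m) F) l j := fun j => by
    rw [h22, transpose_apply]
    exact hgi l j (hl j)
  refine ⟨?_, by rw [hcol, Matrix.one_apply_eq],
    fun j hj => by rw [hcol, Matrix.one_apply_ne hj.symm]⟩
  rw [(mul_blocks A B).2.1, Matrix.add_apply, Matrix.mul_apply, Matrix.mul_apply]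
  rw [Finset.sum_eq_single l, Finset.sum_eq_single l, hcol, Matrix.one_apply_eq, mul_one,
    hA.2.apply_self, one_mul, add_comm]
  · intro j _ hj
    rw [hcol, Matrix.one_apply_ne hj.symm, mul_zero]
  · simp
  · intro j _ hj
    rw [hA.2 l j (hl j), Matrix.one_apply_ne hj.symm, zero_mul]
  · simp

/-- The subgroup without the last long root coordinate. -/
noncomputable def coSubgroup (l : Fin m) (hl : ∀ j, j ≤ l) : Subgroup SP where
  carrier := {A | A ∈ spUnip (m := m) (F := F) ∧ b12 A l l = 0}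
  one_mem' := ⟨one_mem _, by rw [one_blocks.2.1]; rfl⟩
  mul_mem' {A B} hA hB := ⟨mul_mem hA.1 hB.1,
    by rw [(b12_last hA.1 hB.1 hl).1, hA.2, hB.2, add_zero]⟩
  inv_mem' {A} hA := ⟨inv_mem hA.1, by
    have h := (b12_last hA.1 (inv_mem hA.1) hl).1
    rwa [mul_inv_cancel, one_blocks.2.1, hA.2, zero_add, Matrix.zero_apply, eq_comm] at h⟩

theorem conj_co_long {l : Fin m} (hl : ∀ j, j ≤ l) (c : F) {A : SP}
    (hA : A ∈ coSubgroup l hl) :
    siegelU (longSym l c) * A * (siegelU (longSym l c))⁻¹ ∈ coSubgroup (F := F) l hl := by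
  have hx := siegelU_mem (m := m) (longSym l c)
  refine ⟨mul_mem (mul_mem hx hA.1) (inv_mem hx), ?_⟩
  have h := (b12_last hx (inv_mem hx) hl).1
  rw [mul_inv_cancel, one_blocks.2.1, Matrix.zero_apply] at h
  rw [(b12_last (mul_mem hx hA.1) (inv_mem hx) hl).1, (b12_last hx hA.1 hl).1, hA.2, add_zero, ← h]

theorem conj_co_lower {l : Fin m} (hl : ∀ j, j ≤ l) (c : F) {A : SP}
    (hA : A ∈ coSubgroup l hl) :
    lowerElt l c * A * (lowerElt l c)⁻¹ ∈ coSubgroup (F := F) l hl := by
  obtain ⟨⟨h21, hP⟩, hQ⟩ := hA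
  obtain ⟨-, hDll, hD⟩ := b12_last (one_mem (spUnip (m := m) (F := F)))
    (B := A) ⟨h21, hP⟩ hl
  rw [lowerElt_inv]
  obtain ⟨y1, y2, y3, y4⟩ := lowerElt_blocks l c
  obtain ⟨z1, z2, z3, z4⟩ := lowerElt_blocks l (-c)
  obtain ⟨a1, a2, a3, a4⟩ := mul_blocks (lowerElt l c) A
  obtain ⟨c1, c2, c3, -⟩ := mul_blocks (lowerElt l c * A) (lowerElt l (-c))
  rw [a1, a2, y1, y2, z1, z3, Matrix.one_mul, Matrix.one_mul, Matrix.zero_mul, Matrix.zero_mul,
    add_zero, add_zero, Matrix.mul_one] at c1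
  rw [a1, a2, y1, y2, z2, z4, Matrix.one_mul, Matrix.one_mul, Matrix.zero_mul, Matrix.zero_mul,
    add_zero, add_zero, Matrix.mul_zero, Matrix.mul_one, zero_add] at c2
  rw [a3, a4, y3, y4, z1, z3, h21, Matrix.one_mul, Matrix.one_mul, add_zero, Matrix.mul_one] at c3
  refine ⟨⟨?_, ?_⟩, by rw [c2]; exact hQ⟩
  · rw [c3]
    ext i j
    simp only [Matrix.add_apply, Matrix.zero_apply, Matrix.add_mul]
    by_cases hj : j = l
    · subst hj
      by_cases hi : i = j
      · subst hi
        simp [hP.apply_self, hQ, hDll]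
      · simp [hi, hD i hi]
    · by_cases hi : i = l
      · subst hi
        simp [hj, hP i j (hl j), Matrix.one_apply_ne (Ne.symm hj)]
      · simp [hi, hj]
  · intro i j hji
    rw [c1, Matrix.add_apply, hP i j hji]
    by_cases hj : j = l
    · have hi : i = l := le_antisymm (hl i) (hj ▸ hji)
      simp [hi, hj, hQ]
    · simp [hj]

theorem congr_fix_of_commute {S : symMat m F} {g : SLm} {X : symMat m F}
    (h : siegelU X * (siegelU S * leviSL g) = siegelU S * leviSL g * (siegelU X : SP)) :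
    congrSym (Matrix.SpecialLinearGroup.toGL g) X = X := by
  refine siegelU_injective ?_
  show siegelU _ = siegelU X
  rw [← leviSL_conj_siegel, mul_inv_eq_iff_eq_mul]
  refine mul_left_cancel (a := siegelU S) ?_
  rw [← mul_assoc, ← h, ← mul_assoc, ← mul_assoc, ← AddChar.map_add_eq_mul,
    ← AddChar.map_add_eq_mul, add_comm]

omit [Finite F] in
/-- A unitriangular matrix fixing the long root elements. -/
theorem eq_one_of_congr_fix {g : SLm} (hg : IsUni g.1)
    (hlong : ∀ i, congrSym (Matrix.SpecialLinearGroup.toGL g) (longSym i 1) = longSym i 1) :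
    g = 1 := by
  refine Subtype.ext (Matrix.ext fun r i => ?_)
  rw [Matrix.SpecialLinearGroup.coe_one]
  rcases eq_or_ne r i with rfl | hri
  · rw [hg.apply_self, Matrix.one_apply_eq]
  rw [Matrix.one_apply_ne hri]
  have h := congrArg (fun X : symMat m F => X.1 r r) (hlong i)
  simp only [congrSym_val, longSym_val] at h
  rw [Matrix.mul_apply, Finset.sum_eq_single i] at h
  · rw [Matrix.mul_single_apply_same, transpose_apply] at h
    simpa [Matrix.single_apply, hri.symm] using h
  · intro k _ hk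
    rw [Matrix.mul_single_apply_of_ne _ _ _ _ _ hk, zero_mul]
  · simp

/-- An element centralizing the Levi root element at `(k, l)` has no last long root coordinate. -/
theorem b12_eq_zero_of_commute {A : SP} (hA : A ∈ spUnip (m := m) (F := F)) {k l : Fin m}
    (hkl : k < l) (hl : ∀ j, j ≤ l)
    (h : A * leviSL (Matrix.SpecialLinearGroup.transvection hkl.ne (1 : F)) =
      leviSL (Matrix.SpecialLinearGroup.transvection hkl.ne (1 : F)) * A) : b12 A l l = 0 := by
  obtain ⟨S, g, hg, -, rfl⟩ := exists_decomp hA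
  set X := Matrix.SpecialLinearGroup.transvection hkl.ne (1 : F)
  have hS : b12 (siegelU S * leviSL g : SP) l l = S.1 l l := by
    rw [(b12_last (siegelU_mem S) (leviSL_mem hg) hl).1, (siegelU_blocks S).2.1,
      show b12 (leviSL g : SP) = 0 from rfl, Matrix.zero_apply, add_zero]
  rw [hS]
  have h11 := congrArg b11 h
  have hb : ∀ (S' : symMat m F) (g' : SLm), b11 (siegelU S' * leviSL g' : SP) = g'.1 := fun S' g' => by
    rw [(mul_blocks _ _).1, (siegelU_blocks S').1, (siegelU_blocks S').2.1,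
      show b21 (leviSL g' : SP) = 0 from rfl, show b11 (leviSL g' : SP) = g'.1 from rfl,
      Matrix.one_mul, Matrix.mul_zero, add_zero]
  have e : leviSL X * (siegelU S * leviSL g) =
      (siegelU (congrSym (Matrix.SpecialLinearGroup.toGL X) S) * leviSL (X * g) : SP) := by
    rw [map_mul, ← leviSL_conj_siegel]
    group
  rw [e, mul_assoc, ← map_mul, hb, hb] at h11
  have hgX : g * X = X * g := Subtype.ext h11
  rw [e, mul_assoc, ← map_mul, hgX] at h
  have hfix : S = congrSym (tvGL hkl.ne (1 : F)) S := siegelU_injective (mul_right_cancel h)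
  have h3 := congrArg (fun Y : symMat m F => Y.1 k l) hfix
  simp only [congr_tv_apply] at h3
  simpa [hkl.ne, hkl.ne'] using h3

variable (p : ℕ) [hp : Fact p.Prime] [hchar : CharP F p]

include hp hchar

theorem lowerElt_pow (i : Fin m) (c : F) : (lowerElt i c : SP) ^ p = 1 := by
  have h : ∀ n : ℕ, (lowerElt i c : SP) ^ n = lowerElt i ((n : F) * c) := by
    intro n
    induction n with
    | zero => rw [pow_zero, Nat.cast_zero, zero_mul, lowerElt_zero]
    | succ n ih => rw [pow_succ, ih, lowerElt_mul, Nat.cast_succ, add_one_mul]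
  rw [h, CharP.cast_eq_zero, zero_mul, lowerElt_zero]

theorem siegelU_pow (S : symMat m F) : (siegelU S : SP) ^ p = 1 := by
  rw [← AddChar.map_nsmul_eq_pow, show p • S = 0 from Subtype.ext (by
    show p • S.1 = 0
    ext i j
    rw [Matrix.smul_apply, nsmul_eq_mul, CharP.cast_eq_zero, zero_mul]; rfl),
    AddChar.map_zero_eq_one]

theorem leviSL_transvection_pow {i j : Fin m} (h : i ≠ j) (c : F) :
    (leviSL (Matrix.SpecialLinearGroup.transvection h c) : SP) ^ p = 1 := by
  have hn : ∀ n : ℕ, (Matrix.SpecialLinearGroup.transvection h c : SLm) ^ n =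
      Matrix.SpecialLinearGroup.transvection h ((n : F) * c) := by
    intro n
    induction n with
    | zero => simp [Matrix.SpecialLinearGroup.transvection_coeff_zero]
    | succ n ih =>
      rw [pow_succ, ih, ← Matrix.SpecialLinearGroup.transvection_add, Nat.cast_succ, add_one_mul]
  rw [← map_pow, hn, CharP.cast_eq_zero, zero_mul, Matrix.SpecialLinearGroup.transvection_coeff_zero,
    map_one]

/-- Elements of order dividing `p` normalizing a suitable normal subgroup are basic. -/
theorem proj_mem_basic_closure {R : Subgroup SP} {Y : Set SP}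
    (hY : ∀ y ∈ Y, y ^ p = 1 ∧ ∀ a ∈ R, y * a * y⁻¹ ∈ R) {t : SP}
    (ht : t ∈ Subgroup.closure Y) :
    proj t ∈ Subgroup.closure {y : Cfsg.PSp m F |
      y ∈ Subgroup.normalizer ((R.map proj : Subgroup _) : Set _) ∧ ∃ k : ℕ, orderOf y = p ^ k} := by
  have : Finite SP := Finite.of_injective _ Subtype.val_injective
  have h := Subgroup.mem_map_of_mem (proj (m := m) (F := F)) ht
  rw [MonoidHom.map_closure] at h
  refine Subgroup.closure_mono ?_ h
  rintro _ ⟨y, hy, rfl⟩
  obtain ⟨hyp, hyR⟩ := hY y hy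
  refine ⟨?_, ?_⟩
  · have hn : y ∈ Subgroup.normalizer (R : Set SP) := by
      rw [Subgroup.mem_normalizer_iff]
      intro a
      refine ⟨hyR a, fun ha => ?_⟩
      have hpow : ∀ n : ℕ, ∀ b ∈ R, y ^ n * b * (y ^ n)⁻¹ ∈ R := by
        intro n
        induction n with
        | zero => intro b hb; simpa using hb
        | succ n ih =>
          intro b hb
          rw [pow_succ', show y * y ^ n * b * (y * y ^ n)⁻¹ = y * (y ^ n * b * (y ^ n)⁻¹) * y⁻¹ by
            group]
          exact hyR _ (ih b hb)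
      have h1 := hpow (p - 1) _ ha
      have e : y ^ (p - 1) = y⁻¹ := eq_inv_of_mul_eq_one_left
        (by rw [← pow_succ, Nat.sub_add_cancel hp.out.one_le, hyp])
      rw [e] at h1
      simpa [mul_assoc] using h1
    exact Subgroup.le_normalizer_map (proj (m := m) (F := F)) ⟨y, hn, rfl⟩
  · obtain ⟨k, -, hk⟩ := (Nat.dvd_prime_pow hp.out).1
      (orderOf_dvd_of_pow_eq_one (n := p ^ 1) (x := proj y) (by rw [pow_one, ← map_pow, hyp, map_one]))
    exact ⟨k, hk⟩

theorem torus_mem_normalizer {d : Fin m → F} (hd : ∀ i, d i ≠ 0) :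
    proj (leviHom (diagGL d hd)) ∈
      Subgroup.normalizer ((imgU (m := m) (F := F)) : Set (Cfsg.PSp m F)) := by
  have key : ∀ (d : Fin m → F) (hd : ∀ i, d i ≠ 0), ∀ u ∈ spUnip (m := m) (F := F),
      leviHom (diagGL d hd) * u * (leviHom (diagGL d hd))⁻¹ ∈ spUnip (m := m) (F := F) := by
    intro d hd u hu
    have e : (leviHom (diagGL d hd) : SP)⁻¹ = leviHom (diagGL d hd)⁻¹ := (map_inv _ _).symm
    obtain ⟨l1, l2, l3, l4⟩ := leviHom_blocks (diagGL d hd)
    obtain ⟨i1, i2, i3, i4⟩ := leviHom_blocks (diagGL d hd)⁻¹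
    obtain ⟨a1, -, a3, -⟩ := mul_blocks (leviHom (diagGL d hd)) u
    obtain ⟨c1, -, c3, -⟩ := mul_blocks (leviHom (diagGL d hd) * u) (leviHom (diagGL d hd)⁻¹)
    rw [e]
    refine ⟨?_, ?_⟩
    · rw [c3, a3, i3, l3, hu.1]
      simp
    · rw [c1, a1, i1, i3, l1, hu.1, Matrix.mul_zero, Matrix.mul_zero, add_zero, add_zero]
      intro i j hji
      show (diagonal d * b11 u * diagonal fun k => (d k)⁻¹) i j = _
      rw [mul_diagonal, diagonal_mul, hu.2 i j hji]
      rcases eq_or_ne i j with rfl | h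
      · rw [Matrix.one_apply_eq, mul_one, mul_inv_cancel₀ (hd i)]
      · rw [Matrix.one_apply_ne h, mul_zero, zero_mul]
  refine Subgroup.le_normalizer_map (proj (m := m) (F := F)) ⟨_, ?_, rfl⟩
  rw [SetLike.mem_coe, Subgroup.mem_normalizer_iff]
  intro u
  refine ⟨key d hd u, fun h => ?_⟩
  have h1 := key (fun i => (d i)⁻¹) (fun i => inv_ne_zero (hd i)) _ h
  have e : (leviHom (diagGL (fun i => (d i)⁻¹) fun i => inv_ne_zero (hd i)) : SP) =
      (leviHom (diagGL d hd))⁻¹ := by
    rw [← map_inv]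
    exact congrArg leviHom (Units.ext rfl)
  rw [e] at h1
  simpa [mul_assoc] using h1

/-- The normalizer of the Sylow subgroup is generated by basic elements. -/
theorem normalizer_le_closure (hm : 2 ≤ m) :
    Subgroup.normalizer ((imgU (m := m) (F := F)) : Set (Cfsg.PSp m F)) ≤
      Subgroup.closure (basicElts p (imgU (m := m) (F := F))) := by
  set U := (imgU (m := m) (F := F)) with hUdef
  set H := Subgroup.closure (basicElts p U) with hH
  have hU : U ≤ H := fun x hx => Subgroup.subset_closure ⟨Subgroup.le_normalizer hx, Or.inl hx⟩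
  have hin : ∀ {a : SP}, a ∈ spUnip (m := m) (F := F) → proj a ∈ U := fun ha => ⟨_, ha, rfl⟩
  have hcomm : ∀ {a b : SP}, a ∈ spUnip (m := m) (F := F) → b ∈ spUnip (m := m) (F := F) →
      proj a * proj b = proj b * proj a → a * b = b * a := fun ha hb h =>
    proj_inj p (by omega) (mul_mem ha hb) (mul_mem hb ha) (by rw [map_mul, map_mul, h])
  set l : Fin m := ⟨m - 1, by omega⟩
  have hl : ∀ j : Fin m, j ≤ l := fun j => by show j.val ≤ m - 1; omega
  set k : Fin m := ⟨0, by omega⟩
  have hkl : k < l := by show 0 < m - 1; omega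
  -- torus of determinant one
  have hD : ∀ (D : SLm) (d : Fin m → F) (hd : ∀ i, d i ≠ 0),
      Matrix.SpecialLinearGroup.toGL D = diagGL d hd → proj (leviSL D) ∈ H := by
    intro D d hd he
    refine Subgroup.subset_closure ⟨?_, Or.inr (Or.inr ⟨(siegelGrp (m := m) (F := F)).map proj,
      ?_, ?_, ?_, ?_⟩)⟩
    · show proj (leviHom (Matrix.SpecialLinearGroup.toGL D)) ∈ _
      rw [he]
      exact torus_mem_normalizer p hd
    · rintro _ ⟨_, ⟨S, rfl⟩, rfl⟩
      exact hin (siegelU_mem S)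
    · rintro _ ⟨u, hu, rfl⟩
      refine Subgroup.le_normalizer_map (proj (m := m) (F := F)) ⟨u, ?_, rfl⟩
      rw [SetLike.mem_coe, Subgroup.mem_normalizer_iff]
      intro a
      refine ⟨conj_siegelGrp hu.1, fun h => ?_⟩
      have := conj_siegelGrp (inv_mem hu).1 h
      simpa [mul_assoc] using this
    · rintro _ ⟨⟨A, hA, rfl⟩, hc⟩
      obtain ⟨S, g, hg, -, rfl⟩ := exists_decomp hA
      have hg1 : g = 1 := eq_one_of_congr_fix hg fun i => congr_fix_of_commute
        (hcomm (siegelU_mem _) hA (Subgroup.mem_centralizer_iff.1 hc _ ⟨_, ⟨_, rfl⟩, rfl⟩))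
      rw [hg1, map_one, mul_one]
      exact ⟨_, ⟨S, rfl⟩, rfl⟩
    · refine proj_mem_basic_closure p (Y := {y | ∃ (i j : Fin m) (h : i ≠ j) (c : F),
        y = leviSL (Matrix.SpecialLinearGroup.transvection h c)}) ?_ ?_
      · rintro _ ⟨i, j, h, c, rfl⟩
        exact ⟨leviSL_transvection_pow p h c, fun a ha => conj_siegelGrp rfl ha⟩
      · have htop : (Subgroup.closure {y : SP | ∃ (i j : Fin m) (h : i ≠ j) (c : F),
            y = leviSL (Matrix.SpecialLinearGroup.transvection h c)}).comap leviSL = ⊤ :=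
          CfsgLib.Linear.sl_eq_top_of_transvections fun i j h c =>
            Subgroup.subset_closure ⟨i, j, h, c, rfl⟩
        exact (htop ▸ Subgroup.mem_top D :)
  -- torus element at the last index
  have hT : ∀ a : Fˣ, proj (leviHom (oneAt l a)) ∈ H := by
    intro a
    refine Subgroup.subset_closure ⟨torus_mem_normalizer p _, Or.inr (Or.inr
      ⟨(coSubgroup l hl).map proj, ?_, ?_, ?_, ?_⟩)⟩
    · rintro _ ⟨A, hA, rfl⟩
      exact hin hA.1
    · rintro _ ⟨u, hu, rfl⟩
      refine Subgroup.le_normalizer_map (proj (m := m) (F := F)) ⟨u, ?_, rfl⟩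
      have key : ∀ {u A : SP}, u ∈ spUnip (m := m) (F := F) → A ∈ coSubgroup l hl →
          u * A * u⁻¹ ∈ coSubgroup (F := F) l hl := by
        intro u A hu hA
        refine ⟨mul_mem (mul_mem hu hA.1) (inv_mem hu), ?_⟩
        have h := (b12_last hu (inv_mem hu) hl).1
        rw [mul_inv_cancel, one_blocks.2.1, Matrix.zero_apply] at h
        rw [(b12_last (mul_mem hu hA.1) (inv_mem hu) hl).1, (b12_last hu hA.1 hl).1, hA.2, add_zero,
          ← h]
      rw [SetLike.mem_coe, Subgroup.mem_normalizer_iff]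
      intro A
      refine ⟨key hu, fun h => ?_⟩
      have := key (inv_mem hu) h
      simpa [mul_assoc] using this
    · rintro _ ⟨⟨A, hA, rfl⟩, hc⟩
      have hX := leviSL_mem (F := F) (UpperSL.isUni_transvection hkl (1 : F))
      refine ⟨A, ⟨hA, b12_eq_zero_of_commute hA hkl hl (hcomm hA hX ?_)⟩, rfl⟩
      exact (Subgroup.mem_centralizer_iff.1 hc _ ⟨_, ⟨hX, rfl⟩, rfl⟩).symm
    · refine proj_mem_basic_closure p (Y := {y | ∃ c : F, y = siegelU (longSym l c) ∨
        y = lowerElt l c}) ?_ ?_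
      · rintro _ ⟨c, rfl | rfl⟩
        · exact ⟨siegelU_pow p _, fun A hA => conj_co_long hl c hA⟩
        · exact ⟨lowerElt_pow p l c, fun A hA => conj_co_lower hl c hA⟩
      · rw [leviHom_oneAt]
        have h1 : ∀ c : F, (siegelU (longSym l c) : SP) ∈ Subgroup.closure
            {y : SP | ∃ c : F, y = siegelU (longSym l c) ∨ y = lowerElt l c} :=
          fun c => Subgroup.subset_closure ⟨c, Or.inl rfl⟩
        have h2 : ∀ c : F, (lowerElt l c : SP) ∈ Subgroup.closure
            {y : SP | ∃ c : F, y = siegelU (longSym l c) ∨ y = lowerElt l c} :=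
          fun c => Subgroup.subset_closure ⟨c, Or.inr rfl⟩
        exact mul_mem (mul_mem (mul_mem (h1 _) (h2 _)) (h1 _)) (mul_mem (mul_mem (h1 _) (h2 _)) (h1 _))
  intro y hy
  obtain ⟨g, rfl⟩ := proj_surjective y
  obtain ⟨h21, hup⟩ := borel_of_normalizer p (by omega) hy
  obtain ⟨S, h, hh, rfl, -⟩ := exists_siegel_levi h21
  rw [← hh] at hup
  rw [map_mul]
  refine mul_mem (hU (hin (siegelU_mem S))) ?_
  set d : Fin m → F := fun i => h.1 i i
  have hdet : IsUnit h.1.det := (Matrix.isUnit_iff_isUnit_det _).1 h.isUnit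
  rw [Matrix.det_of_isUpperTriangular (fun i j hij => hup i j hij)] at hdet
  have hd : ∀ i, d i ≠ 0 := fun i => Finset.prod_ne_zero_iff.1 hdet.ne_zero i (Finset.mem_univ i)
  obtain ⟨D, a, d', hd', hDd, hDa⟩ := det_diagonal_mul_oneAt hd l
  have hu : IsUni ((diagGL d hd)⁻¹ * h : GL (Fin m) F).1 := by
    show IsUni (diagonal (fun i => (d i)⁻¹) * h.1)
    refine UpperSL.isUni_of_isUpper (fun i j hij => ?_) fun i => ?_
    · rw [diagonal_mul, hup i j hij, mul_zero]
    · rw [diagonal_mul]
      exact inv_mul_cancel₀ (hd i)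
  have e : (leviHom h : SP) = leviSL D * leviHom (oneAt l a) *
      leviSL ⟨_, det_of_isUni hu⟩ := by
    show _ = leviHom _ * _ * leviHom _
    rw [← map_mul, ← map_mul, ← hDa]
    refine congrArg leviHom ?_
    rw [eq_comm, ← eq_inv_mul_iff_mul_eq]
    exact Units.ext rfl
  rw [e, map_mul, map_mul]
  refine mul_mem (mul_mem ?_ (hT a)) (hU (hin (leviSL_mem hu)))
  exact hD D d' hd' hDd

end CfsgLib.FusionSimple.PSp
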