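/-
The fusion system of `PSp_2m(q)` in the defining characteristic is simple.
-/
import Cfsg.Agent.FusionSimple.PSp.Normalizer

set_option autoImplicit false

namespace CfsgLib.FusionSimple.PSp

open CfsgLib.RepBounds

variable {m : ℕ} {F : Type*} [Field F] [Finite F]

theorem isSimple_fusion_PSp (p : ℕ) [Fact p.Prime] [CharP F p] (hm : 2 ≤ m)
    (hex : m = 2 → 3 ≤ Nat.card F) (S : Sylow p (Cfsg.PSp m F)) :
    (Cfsg.groupFusionSystem (S : Subgroup (Cfsg.PSp m F))).IsSimple p := by
  have : Finite (Matrix.symplecticGroup (Fin m) F) := Finite.of_injective _ Subtype.val_injective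
  have : Finite (Cfsg.PSp m F) := Finite.of_surjective _ (proj_surjective (m := m) (F := F))
  refine isSimple_of_one_sylow (sylowU p (by omega)) ?_
    (fun T hT => eq_bot_or_eq_of_closed p hm hex hT) (normalizer_le_closure p hm) S
  intro h
  have hmem : proj (siegelU (longSym (⟨0, by omega⟩ : Fin m) (1 : F))) ∈
      (imgU (m := m) (F := F)) := ⟨_, siegelU_mem _, rfl⟩
  rw [show (imgU (m := m) (F := F)) = ⊥ from h, Subgroup.mem_bot] at hmem
  have h1 := proj_inj p (by omega) (siegelU_mem _) (one_mem _) (hmem.trans (map_one _).symm)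
  rw [← AddChar.map_zero_eq_one (siegelU (n := m) (F := F))] at h1
  have h2 := congrArg (fun X : CfsgLib.RepBounds.symMat m F => X.1 (⟨0, by omega⟩ : Fin m) ⟨0, by omega⟩)
    (siegelU_injective h1)
  simp [longSym] at h2

end CfsgLib.FusionSimple.PSp
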